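import Groth.Agent.Lib.JacPts22.CurveJacobian
import Groth.Agent.Lib.JacPts22.Sets
import Groth.Agent.Lib.JacPts22.GoodPoint
import Groth.Agent.Lib.PicPn.Seesaw
import Groth.Agent.Lib.NumPoly18.FamilyEuler
import Groth.Agent.Lib.AlgEquiv22.Closed

/-!
# The theta locus is a translate of the sum of copies of the curve
-/

set_option autoImplicit false
set_option linter.style.haveILetI false
set_option linter.unusedSectionVars false
set_option backward.isDefEq.respectTransparency false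
set_option backward.isDefEq.respectTransparency.types false
set_option maxHeartbeats 1000000

universe u

open CategoryTheory CategoryTheory.Limits AlgebraicGeometry TopologicalSpace Opposite MonoidalCategory
  CartesianMonoidalCategory MonObj

noncomputable section

namespace Groth.Agent.Riemann22

open Groth.Agent.Abel10 (pc pc_comp pc_id)
open Groth.Agent.JacPts22
open Groth.Agent.Abel10 Groth.Agent.PicRep20

noncomputable local instance instLawThetaLocus (Y : Scheme.{u}) : PicGrp.Law Y := M2.law Y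

variable {k : Type u} [Field k] [IsAlgClosed k] {C : Scheme.{u}} [C.Over (Spec (CommRingCat.of k))]
  [IsProper (C ↘ Spec (CommRingCat.of k))] [Smooth (C ↘ Spec (CommRingCat.of k))]
  [GeometricallyConnected (C ↘ Spec (CommRingCat.of k))] [IsIntegral C]
  [GeometricallyIrreducible (C ↘ Spec (CommRingCat.of k))]
  (hdim : topologicalKrullDim C = 1)
  {J : Over (Spec (CommRingCat.of k))} [GrpObj J] [IsCommMonObj J]
  {ψ : (ModFun.PicDeg (C ↘ Spec (CommRingCat.of k)) 0).Hom ⊤ J}
  (hJ : Jac.IsJacobian (C ↘ Spec (CommRingCat.of k)) ⊤ J ψ)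

include hdim hJ

/-- A base point and an Abel map. -/
theorem exists_abel : ∃ (σ : Spec (CommRingCat.of k) ⟶ C) (_ : σ ≫ (C ↘ Spec (CommRingCat.of k)) = 𝟙 _)
    (j : Over.mk (C ↘ Spec (CommRingCat.of k)) ⟶ J),
    Jac.IsAbelJacobiAt (C ↘ Spec (CommRingCat.of k)) σ ψ j := by
  haveI : IsProper (Over.mk (C ↘ Spec (CommRingCat.of k))).hom := ‹IsProper (C ↘ Spec (CommRingCat.of k))›
  haveI : Nonempty ↥(Over.mk (C ↘ Spec (CommRingCat.of k))).left := inferInstanceAs (Nonempty C)
  obtain ⟨c, -⟩ := exists_point_mem (P := Over.mk (C ↘ Spec (CommRingCat.of k))) (Z := Set.univ)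
    isClosed_univ.isLocallyClosed Set.univ_nonempty
  obtain ⟨L, hL, hok⟩ := exists_ajFamily (σ := c.left) hdim (Over.w c)
  exact ⟨c.left, Over.w c, ψ.app _ L trivial hok, trivial, L, hok, hL, rfl⟩

variable {σ : Spec (CommRingCat.of k) ⟶ C} (hσ : σ ≫ (C ↘ Spec (CommRingCat.of k)) = 𝟙 _)
  (j : Over.mk (C ↘ Spec (CommRingCat.of k)) ⟶ J)
  (hj : Jac.IsAbelJacobiAt (C ↘ Spec (CommRingCat.of k)) σ ψ j)

include hσ hj

/-- Every class of degree zero is the class of a point. -/
theorem exists_iota (c : PicLoc.PicSet C) (hc : degC k c = 0) : ∃ a, iota hdim J ψ hJ a = c := by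
  let x : Torelli22.Pts k C := ⟨σ, hσ⟩
  set g := Curv2.genus k C
  have hd : degC k (c * (Torelli22.P hdim x ^ g)⁻¹) = g := by
    rw [degC_mul hdim, degC_inv hdim, degC_pow hdim, degC_P hdim, hc]; ring
  obtain ⟨Q, hQ⟩ := eff_of_h0_pos hdim g _ hd (by
    have hr := rr hdim x (c * (Torelli22.P hdim x ^ g)⁻¹)
    rw [hd] at hr
    omega)
  refine ⟨mkPt Q ≫ sumMap j g, ?_⟩
  have h : cN hdim σ hσ ψ hJ g (mkPt Q ≫ sumMap j g) = c * (Torelli22.P hdim x ^ g)⁻¹ := by
    rw [cN_sum hdim σ hσ ψ hJ j hj, hQ]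
    simp [coord_mkPt]
  exact mul_right_cancel h

/-- The theta locus is a translate of the sum of `g - 1` copies of the curve. -/
theorem thetaLocus_eq {n : ℕ} (hn : Curv2.genus k C = n + 1) {N : C.Modules} (hN : PicF.IsInvertible N)
    (hNdeg : Curv2.deg k C N 1 = n) :
    ∃ a : 𝟙_ (Over (Spec (CommRingCat.of k))) ⟶ J,
      Jac.thetaLocus (C ↘ Spec (CommRingCat.of k)) 0 ψ N =
        (Jac.transl J a).left.base ⁻¹' Set.range (sumMap j n).left.base := by
  obtain ⟨hJp, -, hJg⟩ := jacobian_props hdim σ hσ hJ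
  haveI := hJp
  let x₀ : Torelli22.Pts k C := ⟨σ, hσ⟩
  obtain ⟨a, ha⟩ := exists_iota hdim hJ hσ j hj (PicGrp.cls N hN * Torelli22.P hdim x₀ ^ n) (by
    rw [degC_mul hdim, degC_cls, hNdeg, degC_pow hdim, degC_P hdim]; ring)
  refine ⟨a, ?_⟩
  obtain ⟨-, -, -, ξ, hξ, hψ⟩ := exists_fine _ hdim σ hσ J ψ hJ.coarse.2.1
  obtain ⟨Lξ, hLξ, hLξc⟩ := PicGrp.exists_eq_cls ξ
  let pC := C ↘ Spec (CommRingCat.of k)
  let f := PicF.XTproj pC J
  let F : (PicF.XT pC J).Modules := CohB1.tensorMod Lξ ((Scheme.Modules.pullback (pullback.fst pC J.hom)).obj N)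
  have hN' := PicLoc.isInvertible_pullback (pullback.fst pC J.hom) hN
  have hF : PicF.IsInvertible F := M2.isInvertible_tensor hLξ hN'
  haveI : IsProper f := inferInstanceAs (IsProper (pullback.snd pC J.hom))
  haveI : Flat f := inferInstanceAs (Flat (pullback.snd pC J.hom))
  haveI : IsLocallyNoetherian J.left := LocallyOfFiniteType.isLocallyNoetherian J.hom
  have hfl : FlatMod.IsFlatOver f F := DPerf.isFlatOver_of_isFlat f (M := F) fun x =>
    KFlat.Sch.isFlat_of_isFinLocFree (M2.isFinLocFree_of_isInvertible hF) x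
  have hcoh : Coh.IsCoh F := CubeField.isCoh_of_isInvertible hF
  let Z : Set J.left := {y | 1 ≤ CohIII.fiberRank f F 0 y}
  have hZc : IsClosed Z := PicPn.isClosed_le_fiberRank f hF 1
  -- points of the jump locus
  have hgen : ∀ (Ω : Type u) [Field Ω] (t : Spec (CommRingCat.of Ω) ⟶ Spec (CommRingCat.of k))
      (L : (PicF.XT pC (Over.mk t)).Modules) (hL : (ModFun.PicDeg pC 0).ok (Over.mk t) L) (p : Spec (CommRingCat.of Ω)),
      (¬ Subsingleton (Coh.HH (PicF.XT pC (Over.mk t)) (CohB1.tensorMod L ((Scheme.Modules.pullback (pullback.fst pC t)).obj N)) 0)) ↔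
        (ψ.app (Over.mk t) L trivial hL).left.base p ∈ Z := by
    intro Ω _ t L hL p
    let b := ψ.app (Over.mk t) L trivial hL
    let X' := PicF.XT pC (Over.mk t)
    letI : X'.Over (Spec (CommRingCat.of Ω)) := ⟨PicF.XTproj _ _⟩
    haveI : IsProper (X' ↘ Spec (CommRingCat.of Ω)) := inferInstanceAs (IsProper (pullback.snd pC t))
    haveI : IsNoetherian X' := CohFound.isNoetherian_of_isProper (X' ↘ Spec (CommRingCat.of Ω))
    have hLi : PicF.IsInvertible L := (M2.isInvertible_iff_isFinLocFreeOfRank_one L).2 hL.1.2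
    obtain ⟨m, hm⟩ := classify_spec hξ (famCls pC 0 hL) (degCl_famCls pC hdim 0 hL)
    rw [← hψ _ L hL, show m = 1 by
      obtain ⟨M, hM, rfl⟩ := PicGrp.exists_eq_cls m
      exact (PicGrp.cls_eq_one_iff _).2 (CubeField.nonempty_trivial_field _ hM),
      map_one, _root_.mul_one, hLξc] at hm
    have hNt := PicLoc.isInvertible_pullback (pullback.fst pC t) hN
    have hTi := M2.isInvertible_tensor hLi hNt
    have hcls : PicGrp.cls (Y := X') _ (PicLoc.isInvertible_pullback (PicF.XTmap pC b) hF) = PicGrp.cls (Y := X') _ hTi := by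
      rw [← PicGrp.pullHom_cls (PicF.XTmap pC b) (M2.pullMul _) F hF, ← AlgEquiv22.cls_tensor hLξ hN', map_mul]
      refine ((congrArg₂ (· * ·) hm.symm ?_).trans (AlgEquiv22.cls_tensor hLi hNt))
      rw [← PicGrp.pullHom_cls (pullback.fst pC J.hom) (M2.pullMul _) N hN]
      exact (pc_comp _ _ (HilbBC25.XTmap_fst pC b) _).trans (PicGrp.pullHom_cls _ _ _ _)
    obtain ⟨e⟩ := (PicGrp.cls_eq_cls_iff _ _).1 hcls
    have hr := NumPoly18.fiberRank_eq_finrank (k := Ω) f hcoh hfl (PicF.XTmap pC b) b.left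
      (HilbBC25.isPullback_XTmap pC b) 0
    rw [(CurveCoh17.hequiv Ω (X := X') e 0).finrank_eq] at hr
    haveI : Module.Finite Ω (Coh.HH X' (CohB1.tensorMod L ((Scheme.Modules.pullback (pullback.fst pC t)).obj N)) 0) :=
      CohFound.finite_HH_of_isProper (A := Ω) _ (CubeField.isCoh_of_isInvertible hTi) 0
    rw [show p = ⟨⊥, Ideal.isPrime_bot⟩ from Subsingleton.elim (α := PrimeSpectrum Ω) _ _]
    show _ ↔ 1 ≤ CohIII.fiberRank f F 0 _
    erw [hr]
    rw [← not_iff_not, not_not]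
    exact (Module.finrank_zero_iff (R := Ω)).symm.trans
      ⟨fun h => Nat.not_le.2 (h.trans_lt Nat.one_pos), fun h => Nat.lt_one_iff.1 (Nat.not_le.1 h)⟩
  -- rational points
  have hk : ∀ b : 𝟙_ (Over (Spec (CommRingCat.of k))) ⟶ J,
      CurvePts22.pt b.left ∈ Z ↔ CurvePts22.pt (b ≫ Jac.transl J a).left ∈ Set.range (sumMap j n).left.base := by
    intro b
    haveI : IsIso (rho k C) := ⟨pullback.fst pC (T₀ k).hom, pullback.lift_fst _ _ _, fst_rho⟩
    have hsq : IsPullback (rho k C ≫ PicF.XTmap pC b) (C ↘ Spec (CommRingCat.of k)) f b.left := by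
      have h1 : IsPullback (rho k C) (C ↘ Spec (CommRingCat.of k)) (PicF.XTproj pC (T₀ k)) (𝟙 _) :=
        IsPullback.of_horiz_isIso ⟨by rw [Category.comp_id]; exact pullback.lift_snd _ _ _⟩
      simpa using h1.paste_horiz (HilbBC25.isPullback_XTmap pC b)
    have hr := NumPoly18.fiberRank_eq_finrank (k := k) f hcoh hfl _ b.left hsq 0
    have hpt : CurvePts22.pt b.left = b.left.base ⟨⊥, Ideal.isPrime_bot⟩ := (base_eq b _).symm
    show 1 ≤ CohIII.fiberRank f F 0 _ ↔ _
    rw [hpt]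
    erw [hr, ← h0C_cls (k := k) (C := C) (PicLoc.isInvertible_pullback _ hF)]
    have hiota : iota hdim J ψ hJ b = pc (rho k C) (pc (PicF.XTmap pC b) ξ) := by
      let E := (Scheme.Modules.pullback (PicF.XTmap pC b)).obj Lξ
      have hEi : PicF.IsInvertible E := PicLoc.isInvertible_pullback _ hLξ
      have hEc : PicGrp.cls E hEi = pc (PicF.XTmap pC b) ξ := by rw [hLξc]; exact (PicGrp.pullHom_cls _ _ _ _).symm
      have hd : ∀ t, PicTan20.degCl pC (T₀ k) t (pc (PicF.XTmap pC b) ξ).1 = 0 := fun t =>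
        (PicTan20.degCl_pull _ b t ξ.2).trans (hξ.1 _)
      have hok : (ModFun.PicDeg pC 0).ok (T₀ k) E := ok_of_class _ hdim 0 hEi fun t => by
        rw [← PicGrp.cls_val E hEi, hEc]; exact hd t
      have hi := iota_app hdim J ψ hJ (E := E) hok
      rw [hψ (T₀ k) E hok, classify_congr hξ (show famCls pC 0 hok = pc (PicF.XTmap pC b) ξ from hEc) _ hd,
        classify_univ hξ b] at hi
      rw [hi, cl₀, ← hEc]
    have e2 : PicGrp.cls _ (PicLoc.isInvertible_pullback (rho k C ≫ PicF.XTmap pC b) hF) =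
        cN hdim σ hσ ψ hJ n (b * a) := by
      rw [← PicGrp.pullHom_cls (rho k C ≫ PicF.XTmap pC b) (M2.pullMul _) F hF, ← AlgEquiv22.cls_tensor hLξ hN',
        map_mul, cN, map_mul, hiota, ha, ← _root_.mul_assoc, mul_inv_cancel_right, ← hLξc]
      refine congrArg₂ (· * ·) (pc_comp _ _ rfl _).symm ?_
      rw [← PicGrp.pullHom_cls (pullback.fst pC J.hom) (M2.pullMul _) N hN]
      refine (pc_comp _ _ (show (rho k C ≫ PicF.XTmap pC b) ≫ pullback.fst pC J.hom = 𝟙 C by
        rw [Category.assoc, HilbBC25.XTmap_fst]; exact pullback.lift_fst _ _ _) _).trans ?_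
      exact pc_id _
    rw [e2, point_comp_transl]
    refine ⟨fun h => (pt_mem_sum hdim σ hσ ψ hJ j hj _).2 (eff_of_h0_pos hdim _ _ (degC_cN hdim σ hσ ψ hJ _ _) h),
      fun h => ((pt_mem_sum hdim σ hσ ψ hJ j hj _).1 h).h0_pos hdim x₀⟩
  -- comparison of the closed sets
  haveI : IsProper (pw k C n).hom := inferInstance
  let K := (Jac.transl J a).left.base ⁻¹' Set.range (sumMap j n).left.base
  have hKc : IsClosed K := (JacPts22.isClosed_range (sumMap j n)).preimage (Jac.transl J a).left.continuous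
  have hZK : Z = K := by
    refine Set.Subset.antisymm (fun y hy => ?_) (fun y hy => ?_)
    · by_contra h
      obtain ⟨b, hb1, hb2⟩ := exists_point_mem (P := J) (hZc.isLocallyClosed.inter hKc.isOpen_compl.isLocallyClosed) ⟨y, hy, h⟩
      exact hb2 ((hk b).1 hb1)
    · by_contra h
      obtain ⟨b, hb1, hb2⟩ := exists_point_mem (P := J) (hKc.isLocallyClosed.inter hZc.isOpen_compl.isLocallyClosed) ⟨y, hy, h⟩
      exact hb2 ((hk b).2 hb1)
  show closure _ = K
  rw [← hZK]
  refine Set.Subset.antisymm (closure_minimal ?_ hZc) fun y hy => ?_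
  · rintro _ ⟨Ω, _, _, t, _, L, hL, hQ, p, rfl⟩
    exact (hgen Ω t L hL p).1 hQ
  · by_contra h
    obtain ⟨b, hb1, hb2⟩ := exists_point_mem (P := J) (hZc.isLocallyClosed.inter isClosed_closure.isOpen_compl.isLocallyClosed) ⟨y, hy, h⟩
    refine hb2 (subset_closure ?_)
    let E := (Scheme.Modules.pullback (PicF.XTmap pC b)).obj Lξ
    have hEi : PicF.IsInvertible E := PicLoc.isInvertible_pullback _ hLξ
    have hEc : PicGrp.cls E hEi = pc (PicF.XTmap pC b) ξ := by rw [hLξc]; exact (PicGrp.pullHom_cls _ _ _ _).symm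
    have hd : ∀ t, PicTan20.degCl pC (T₀ k) t (pc (PicF.XTmap pC b) ξ).1 = 0 := fun t =>
      (PicTan20.degCl_pull _ b t ξ.2).trans (hξ.1 _)
    have hok : (ModFun.PicDeg pC 0).ok (T₀ k) E := ok_of_class _ hdim 0 hEi fun t => by
      rw [← PicGrp.cls_val E hEi, hEc]; exact hd t
    have happ : ψ.app (T₀ k) E trivial hok = b := by
      rw [hψ (T₀ k) E hok, classify_congr hξ (show famCls pC 0 hok = pc (PicF.XTmap pC b) ξ from hEc) _ hd,
        classify_univ hξ b]
    refine ⟨k, inferInstance, inferInstance, 𝟙 _, trivial, E, hok, ?_, IsLocalRing.closedPoint k, ?_⟩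
    · refine (hgen k (𝟙 _) E hok (IsLocalRing.closedPoint k)).2 ?_
      show (ψ.app (T₀ k) E trivial hok).left.base _ ∈ Z
      rw [happ]
      exact (forall_base_iff b Z).2 hb1 _
    · show (ψ.app (T₀ k) E trivial hok).left.base _ = _
      rw [happ]
      exact base_eq b _

end Groth.Agent.Riemann22
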