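import Groth.Agent.Lib.Modif26.Main
import Groth.Agent.Lib.AntiAff20.Flat
import Groth.Agent.Lib.CurveCartier25.Sum

/-!
# Ideals of distinct points and flat covers of closed subschemes
-/

set_option autoImplicit false
set_option linter.style.haveILetI false
set_option backward.isDefEq.respectTransparency false

universe u

open CategoryTheory CategoryTheory.Limits AlgebraicGeometry TopologicalSpace

noncomputable section

namespace Groth.Agent.Riemann22

theorem mul_sup_eq_top {X : Scheme.{u}} {I J K : X.IdealSheafData} (hI : I ⊔ K = ⊤) (hJ : J ⊔ K = ⊤) :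
    I * J ⊔ K = ⊤ := by
  refine Scheme.IdealSheafData.ext (funext fun U => ?_)
  have h1 : I.ideal U ⊔ K.ideal U = ⊤ := congrArg (fun L : X.IdealSheafData => L.ideal U) hI
  have h2 : J.ideal U ⊔ K.ideal U = ⊤ := congrArg (fun L : X.IdealSheafData => L.ideal U) hJ
  show I.ideal U * J.ideal U ⊔ K.ideal U = ⊤
  rw [sup_comm] at h1 h2 ⊢
  rw [Ideal.sup_mul_eq_of_coprime_left h1, h2]

theorem mul_eq_inf {X : Scheme.{u}} {I J : X.IdealSheafData} (h : I ⊔ J = ⊤) : I * J = I ⊓ J := by
  refine Scheme.IdealSheafData.ext (funext fun U => ?_)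
  have h1 : I.ideal U ⊔ J.ideal U = ⊤ := congrArg (fun L : X.IdealSheafData => L.ideal U) h
  exact Ideal.mul_eq_inf_of_isCoprime (Ideal.isCoprime_iff_sup_eq.2 h1)

/-- Kernels of morphisms with disjoint closed ranges are comaximal. -/
theorem ker_sup_eq_top {X Y Z : Scheme.{u}} (f : X ⟶ Z) (g : Y ⟶ Z) [QuasiCompact f] [QuasiCompact g]
    (hf : IsClosed (Set.range f)) (hg : IsClosed (Set.range g)) (h : Disjoint (Set.range f) (Set.range g)) :
    f.ker ⊔ g.ker = ⊤ := by
  rw [← Scheme.IdealSheafData.support_eq_bot_iff]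
  refine Closeds.ext ?_
  rw [Scheme.IdealSheafData.support_sup, Closeds.coe_inf, Scheme.Hom.support_ker, Scheme.Hom.support_ker,
    hf.closure_eq, hg.closure_eq, h.inter_eq]
  rfl

/-- An ideal below comaximal ideals is below their product. -/
theorem le_prod_of_forall {X : Scheme.{u}} {n : ℕ} (G : Fin n → X.IdealSheafData)
    (hG : ∀ i i', i ≠ i' → G i ⊔ G i' = ⊤) (I : X.IdealSheafData) (hI : ∀ i, I ≤ G i) (s : Finset (Fin n))
    (hs : s.Nonempty) : I ≤ ∏ i ∈ s, G i := by
  classical
  suffices H : ∀ s : Finset (Fin n), s.Nonempty →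
      I ≤ ∏ i ∈ s, G i ∧ ∀ a, a ∉ s → (∏ i ∈ s, G i) ⊔ G a = ⊤ from (H s hs).1
  intro s hs
  induction hs using Finset.Nonempty.cons_induction with
  | singleton b => exact ⟨by rw [Finset.prod_singleton]; exact hI b,
      fun a ha => by rw [Finset.prod_singleton]; exact hG _ _ fun e => ha (Finset.mem_singleton.2 e.symm)⟩
  | cons b t hbt _ ih =>
    rw [Finset.prod_cons]
    refine ⟨?_, fun a ha => mul_sup_eq_top (hG _ _ fun e => ha (e ▸ Finset.mem_cons_self _ _))
      (ih.2 a fun e => ha (Finset.mem_cons.2 (Or.inr e)))⟩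
    rw [mul_eq_inf (sup_comm (G b) _ ▸ ih.2 b hbt)]
    exact le_inf (hI b) ih.1

/-- A flat surjection is schematically dominant. -/
theorem ker_eq_bot_of_flat_surjective {X Y : Scheme.{u}} (f : X ⟶ Y) [Flat f] [Surjective f] [QuasiCompact f] :
    f.ker = ⊥ := by
  refine Scheme.IdealSheafData.ext (funext fun U => ?_)
  rw [Scheme.Hom.ker_apply]
  exact (RingHom.injective_iff_ker_eq_bot _).1 (AntiAff20.injective_app_of_flat_surjective f U.1)

/-- An ideal killed by a flat surjection onto a closed subscheme is contained in its ideal. -/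
theorem le_of_flat_cover {X Y Z : Scheme.{u}} {I : Y.IdealSheafData} (f : X ⟶ I.subscheme) [Flat f] [Surjective f]
    [QuasiCompact f] (g : Z ⟶ Y) (l : X ⟶ Z) (hl : l ≫ g = f ≫ I.subschemeι) {K : Y.IdealSheafData}
    (hK : K.comap g = ⊥) : K ≤ I := by
  have h1 : (K.comap I.subschemeι).comap f = ⊥ := by
    rw [← Scheme.IdealSheafData.comap_comp, ← hl, Scheme.IdealSheafData.comap_comp, hK, Scheme.IdealSheafData.comap_bot]
  have h2 : K.comap I.subschemeι = ⊥ := le_bot_iff.1 (by
    rw [← ker_eq_bot_of_flat_surjective f, ← Scheme.IdealSheafData.map_bot, Scheme.IdealSheafData.le_map_iff_comap_le, h1])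
  calc K ≤ (K.comap I.subschemeι).map I.subschemeι := Scheme.IdealSheafData.le_map_comap _ _
    _ = I := by rw [h2, Scheme.IdealSheafData.map_bot, Scheme.IdealSheafData.ker_subschemeι]

end Groth.Agent.Riemann22
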