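import Groth.Agent.Lib.Riemann22.Fibre
import Groth.Agent.Lib.Riemann22.Ideals
import Groth.Agent.Lib.JacPts22.Sets
import Groth.Agent.Lib.OrbitTop19.Flat
import Groth.Agent.Lib.LimH13.ArrowModel
import Groth.Agent.Lib.RedSep.Basic
import Groth.Agent.Lib.IsQuot25.Desc
import Groth.Agent.S11992

/-!
# The intersection of the curve with a general translate of the reflected theta divisor
-/

set_option autoImplicit false
set_option linter.style.haveILetI false
set_option linter.unusedSectionVars false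
set_option backward.isDefEq.respectTransparency false
set_option backward.isDefEq.respectTransparency.types false
set_option maxHeartbeats 1000000

universe u

open CategoryTheory CategoryTheory.Limits AlgebraicGeometry TopologicalSpace Opposite MonoidalCategory
  CartesianMonoidalCategory MonObj

noncomputable section

namespace Groth.Agent.Riemann22

open Groth.Agent.Abel10 (pc pc_comp pc_id)
open Groth.Agent.JacPts22
open Groth.Agent.Abel10 Groth.Agent.PicRep20
open Groth.Agent.PicDesc21 (isInvertibleCl_pull)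

noncomputable local instance instLawThetaFibre (Y : Scheme.{u}) : PicGrp.Law Y := M2.law Y

variable {k : Type u} [Field k] {C : Scheme.{u}} [C.Over (Spec (CommRingCat.of k))]
  [IsProper (C ↘ Spec (CommRingCat.of k))] [Smooth (C ↘ Spec (CommRingCat.of k))]
  [GeometricallyConnected (C ↘ Spec (CommRingCat.of k))] [IsIntegral C]
  [GeometricallyIrreducible (C ↘ Spec (CommRingCat.of k))]
  (hdim : topologicalKrullDim C = 1)
  {σ : Spec (CommRingCat.of k) ⟶ C} (hσ : σ ≫ (C ↘ Spec (CommRingCat.of k)) = 𝟙 _)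
  {J : Over (Spec (CommRingCat.of k))} [GrpObj J] [IsCommMonObj J]
  {ψ : (ModFun.PicDeg (C ↘ Spec (CommRingCat.of k)) 0).Hom ⊤ J}
  (hJ : Jac.IsJacobian (C ↘ Spec (CommRingCat.of k)) ⊤ J ψ)
  (j : Over.mk (C ↘ Spec (CommRingCat.of k)) ⟶ J)
  (hj : Jac.IsAbelJacobiAt (C ↘ Spec (CommRingCat.of k)) σ ψ j)

include hdim hσ hJ hj

theorem exists_good_open' {m : ℕ} (hm : Curv2.genus k C = m) : ∃ O : J.left.Opens, (O : Set J.left).Nonempty ∧
    ∀ (y : 𝟙_ (Over (Spec (CommRingCat.of k))) ⟶ pw k C m),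
      (∀ p, (y ≫ sumMap j m).left.base p ∈ O) →
      ∀ (T : Over (Spec (CommRingCat.of k))) (x : T ⟶ pw k C m),
        x ≫ sumMap j m = toUnit T ≫ y ≫ sumMap j m →
        ∀ i, (∏ i', (y ≫ prj i').left.ker).comap (x ≫ prj i).left = ⊥ := by
  subst hm
  exact exists_good_open hdim hσ hJ j hj

omit hdim hσ hJ hj in
/-- The map into the reflected translate. -/
abbrev hMap (a : 𝟙_ (Over (Spec (CommRingCat.of k))) ⟶ J) : Over.mk (C ↘ Spec (CommRingCat.of k)) ⟶ J :=
  j⁻¹ * (toUnit _ ≫ a)

/-- The tail of a tuple after reordering. -/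
abbrev tl {n : ℕ} (e : Equiv.Perm (Fin (n + 1))) : pw k C (n + 1) ⟶ pw k C n :=
  Over.homMk (WidePullback.lift (pw k C (n + 1)).hom (fun i => (prj (k := k) (C := C) (e i.succ)).left)
    fun i => Over.w (prj (e i.succ))) (WidePullback.lift_base _ _ _ _)

omit hdim hσ hJ hj in
theorem tl_prj {n : ℕ} (e : Equiv.Perm (Fin (n + 1))) (i : Fin n) : tl (k := k) (C := C) e ≫ prj i = prj (e i.succ) :=
  Over.OverMorphism.ext (WidePullback.lift_π _ _ _ _ i)

omit hdim hσ hJ hj in
theorem pw_hom_ext {n : ℕ} {T : Over (Spec (CommRingCat.of k))} {x x' : T ⟶ pw k C n}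
    (h : ∀ i, x ≫ prj i = x' ≫ prj i) : x = x' :=
  Over.OverMorphism.ext (WidePullback.hom_ext _ _ _ (fun i => congrArg CommaMorphism.left (h i))
    ((Over.w x).trans (Over.w x').symm))

omit hdim hσ hJ hj in
theorem comp_sumMap {n : ℕ} {T : Over (Spec (CommRingCat.of k))} (x : T ⟶ pw k C n) :
    x ≫ sumMap j n = ∏ i, (x ≫ prj i) ≫ j := by
  rw [comp_list_prod, List.map_ofFn, List.prod_ofFn]
  exact Finset.prod_congr rfl fun i _ => (Category.assoc _ _ _).symm

omit hdim hσ hJ hj in
theorem mkPt_prj {n : ℕ} (x : Fin n → (𝟙_ (Over (Spec (CommRingCat.of k))) ⟶ Over.mk (C ↘ Spec (CommRingCat.of k)))) (i : Fin n) :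
    mkPt (fun i => (⟨(x i).left, Over.w (x i)⟩ : Torelli22.Pts k C)) ≫ prj i = x i :=
  Over.OverMorphism.ext (WidePullback.lift_π _ _ _ _ i)

variable [IsAlgClosed k]

omit hσ hJ hj in
theorem exists_two_points : ∃ c d : 𝟙_ (Over (Spec (CommRingCat.of k))) ⟶ Over.mk (C ↘ Spec (CommRingCat.of k)), c ≠ d := by
  haveI : IsProper (Over.mk (C ↘ Spec (CommRingCat.of k))).hom := ‹IsProper (C ↘ Spec (CommRingCat.of k))›
  haveI : Nonempty ↥(Over.mk (C ↘ Spec (CommRingCat.of k))).left := inferInstanceAs (Nonempty C)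
  obtain ⟨c, -⟩ := exists_point_mem (P := Over.mk (C ↘ Spec (CommRingCat.of k))) (Z := Set.univ)
    isClosed_univ.isLocallyClosed Set.univ_nonempty
  have hc : IsClosed ({CurvePts22.pt c.left} : Set C) :=
    CurvePts22.range_eq c.left ▸
      (CurvePts22.isClosedImmersion_of_section (C := C) c.left (Over.w c)).base_closed.isClosed_range
  have hne : ({CurvePts22.pt c.left} : Set C)ᶜ.Nonempty := by
    by_contra h
    rw [Set.not_nonempty_iff_eq_empty, Set.compl_empty_iff] at h
    haveI : Subsingleton C := ⟨fun a b => by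
      have ha : a ∈ ({CurvePts22.pt c.left} : Set C) := h ▸ Set.mem_univ a
      have hb : b ∈ ({CurvePts22.pt c.left} : Set C) := h ▸ Set.mem_univ b
      exact ha.trans hb.symm⟩
    have h0 := topologicalKrullDim_zero_of_discreteTopology (X := C)
    rw [hdim] at h0
    exact absurd h0 (by simp)
  obtain ⟨d, hd⟩ := exists_point_mem (P := Over.mk (C ↘ Spec (CommRingCat.of k))) hc.isOpen_compl.isLocallyClosed hne
  exact ⟨c, d, fun e => hd (e ▸ rfl)⟩

omit hdim hσ hJ hj in
theorem pts_sup (x x' : 𝟙_ (Over (Spec (CommRingCat.of k))) ⟶ Over.mk (C ↘ Spec (CommRingCat.of k))) (h : x ≠ x') :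
    x.left.ker ⊔ x'.left.ker = ⊤ := by
  haveI := CurvePts22.isClosedImmersion_of_section (C := C) x.left (Over.w x)
  haveI := CurvePts22.isClosedImmersion_of_section (C := C) x'.left (Over.w x')
  refine ker_sup_eq_top _ _ x.left.isClosedMap.isClosed_range x'.left.isClosedMap.isClosed_range ?_
  rw [show Set.range x.left = {CurvePts22.pt x.left} from CurvePts22.range_eq x.left,
    show Set.range x'.left = {CurvePts22.pt x'.left} from CurvePts22.range_eq x'.left, Set.disjoint_singleton]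
  haveI : IsSeparated (Over.mk (C ↘ Spec (CommRingCat.of k))).hom := inferInstanceAs (IsSeparated (C ↘ Spec (CommRingCat.of k)))
  exact fun e => h (Over.OverMorphism.ext (ext_of_pt_eq _ (Over.w x) (Over.w x') e))

/-- A general translate of the reflected theta divisor meets the curve in distinct points. -/
theorem exists_open_fibre {n : ℕ} (hn : Curv2.genus k C = n + 1)
    (hcl : IsClosed (Set.range (sumMap j n).left.base)) :
    ∃ U : J.left.Opens, (U : Set J.left).Nonempty ∧
      ∀ a : 𝟙_ (Over (Spec (CommRingCat.of k))) ⟶ J, CurvePts22.pt a.left ∈ U →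
        ∃ y : 𝟙_ (Over (Spec (CommRingCat.of k))) ⟶ pw k C (n + 1), y ≫ sumMap j (n + 1) = a ∧
          (Scheme.IdealSheafData.vanishingIdeal ⟨_, hcl⟩).comap (hMap j a).left = ∏ i, (y ≫ prj i).left.ker := by
  classical
  obtain ⟨hJp, hJs, hJg⟩ := jacobian_props hdim σ hσ hJ
  haveI : IsProper (𝟙_ (Over (Spec (CommRingCat.of k)))).hom := inferInstanceAs (IsProper (𝟙 (Spec (CommRingCat.of k))))
  haveI : IsReduced (𝟙_ (Over (Spec (CommRingCat.of k)))).left := inferInstanceAs (IsReduced (Spec (CommRingCat.of k)))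
  haveI := hJp
  haveI := hJs
  haveI := hJg
  haveI : IsIntegral J.left := GeometricallyIntegral.isIntegral_of_subsingleton J.hom
  haveI : ∀ m, IsIntegral (pw k C m).left := fun m => by
    haveI := geometricallyIntegral_pw (k := k) (C := C) m
    exact GeometricallyIntegral.isIntegral_of_subsingleton (pw k C m).hom
  let X₁ : Over (Spec (CommRingCat.of k)) := Over.mk (C ↘ Spec (CommRingCat.of k))
  haveI : IsProper X₁.hom := ‹IsProper (C ↘ Spec (CommRingCat.of k))›
  -- the theta divisor with its generic flatness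
  let vI := Scheme.IdealSheafData.vanishingIdeal ⟨_, hcl⟩
  haveI : IsReduced vI.subscheme := RedSepLib.isReduced_vanishingIdeal_subscheme _
  haveI : IsLocallyNoetherian J.left := LocallyOfFiniteType.isLocallyNoetherian J.hom
  haveI : IsLocallyNoetherian vI.subscheme := LocallyOfFiniteType.isLocallyNoetherian vI.subschemeι
  haveI : CompactSpace J.left := QuasiCompact.compactSpace_of_compactSpace J.hom
  haveI : CompactSpace vI.subscheme := QuasiCompact.compactSpace_of_compactSpace vI.subschemeι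
  let q : (pw k C n).left ⟶ vI.subscheme :=
    IsClosedImmersion.lift vI.subschemeι (sumMap j n).left (by
      rw [Scheme.IdealSheafData.ker_subschemeι]
      exact Modif26.vanishingIdeal_le_ker _ _ subset_rfl)
  have hq : q ≫ vI.subschemeι = (sumMap j n).left := IsClosedImmersion.lift_fac _ _ _
  have hrangeι : Set.range vI.subschemeι = Set.range (sumMap j n).left.base := by
    rw [Scheme.IdealSheafData.range_subschemeι]
    exact congrArg SetLike.coe (Scheme.IdealSheafData.coe_support_vanishingIdeal _ |> fun h => Closeds.ext h :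
      vI.support = ⟨_, hcl⟩)
  haveI : Nonempty vI.subscheme := ⟨q (Classical.arbitrary _)⟩
  haveI : LocallyOfFiniteType (q ≫ vI.subschemeι ≫ J.hom) := by
    rw [reassoc_of% hq, Over.w (sumMap j n)]; infer_instance
  haveI : LocallyOfFiniteType q := locallyOfFiniteType_of_comp q (vI.subschemeι ≫ J.hom)
  haveI : LocallyOfFinitePresentation q := LimH13.locallyOfFinitePresentation_of_noetherian q
  haveI : QuasiCompact (q ≫ vI.subschemeι) := by
    haveI : QuasiCompact ((sumMap j n).left ≫ J.hom) := by rw [Over.w (sumMap j n)]; infer_instance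
    rw [hq]; exact QuasiCompact.of_comp _ J.hom
  haveI : QuasiCompact q := QuasiCompact.of_comp q vI.subschemeι
  obtain ⟨W, hWo, ⟨w₀, hw₀⟩, hWflat⟩ := OrbitTop19.exists_open_flat q
  obtain ⟨V, hVo, hVW⟩ := (vI.subschemeι.isClosedEmbedding.isInducing.isOpen_iff).1 hWo
  obtain ⟨O, hO, hfib⟩ := exists_good_open' hdim hσ hJ j hj hn
  -- the bad set
  let tB : Equiv.Perm (Fin (n + 1)) → Set (pw k C (n + 1)).left := fun e => (tl e ≫ sumMap j n).left.base ⁻¹' Vᶜ
  let pair : Fin (n + 1) → Fin (n + 1) → (pw k C (n + 1) ⟶ X₁ ⊗ X₁) := fun i i' => lift (prj i) (prj i')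
  let dg : X₁ ⟶ X₁ ⊗ X₁ := lift (𝟙 X₁) (𝟙 X₁)
  haveI : IsSeparated (X₁ ⊗ X₁).hom := inferInstanceAs (IsSeparated (pullback.fst X₁.hom X₁.hom ≫ X₁.hom))
  let dB : Set (pw k C (n + 1)).left :=
    ⋃ (p : {p : Fin (n + 1) × Fin (n + 1) // p.1 ≠ p.2}), (pair p.1.1 p.1.2).left.base ⁻¹' Set.range dg.left.base
  let Bad : Set (pw k C (n + 1)).left := tB 1 ∪ dB
  have htB : ∀ e, IsClosed (tB e) := fun e => hVo.isClosed_compl.preimage (tl e ≫ sumMap j n).left.continuous
  have hdB : IsClosed dB :=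
    isClosed_iUnion_of_finite fun p => (isClosed_range dg).preimage (pair p.1.1 p.1.2).left.continuous
  have hdB' : ∀ y : 𝟙_ (Over (Spec (CommRingCat.of k))) ⟶ pw k C (n + 1),
      CurvePts22.pt y.left ∈ dB ↔ ∃ i i', i ≠ i' ∧ y ≫ prj i = y ≫ prj i' := fun y => by
    constructor
    · intro h
      obtain ⟨⟨⟨i, i'⟩, hii⟩, hp⟩ := Set.mem_iUnion.1 h
      obtain ⟨x, hx⟩ := exists_point_eq dg (y ≫ pair i i') hp
      refine ⟨i, i', hii, ?_⟩
      have e1 := congrArg (· ≫ fst X₁ X₁) hx
      have e2 := congrArg (· ≫ snd X₁ X₁) hx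
      simp only [pair, dg, Category.assoc, lift_fst, lift_snd, Category.comp_id] at e1 e2
      exact e1.symm.trans e2
    · rintro ⟨i, i', hii, e⟩
      refine Set.mem_iUnion.2 ⟨⟨⟨i, i'⟩, hii⟩, ?_⟩
      show CurvePts22.pt (y ≫ pair i i').left ∈ Set.range dg.left.base
      rw [show y ≫ pair i i' = (y ≫ prj i) ≫ dg by
        apply CartesianMonoidalCategory.hom_ext <;> simp [pair, dg, e]
        all_goals exact congrArg (y ≫ ·) (Category.comp_id _).symm]
      exact pt_comp_mem dg _
  -- a good tuple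
  have hVne : ∃ z : 𝟙_ (Over (Spec (CommRingCat.of k))) ⟶ pw k C n, CurvePts22.pt (z ≫ sumMap j n).left ∈ V := by
    have hw1 : vI.subschemeι w₀ ∈ Set.range (sumMap j n).left.base := hrangeι ▸ ⟨w₀, rfl⟩
    obtain ⟨e₀, he₀⟩ := hw1
    obtain ⟨z, hz⟩ := exists_point_mem (P := pw k C n) (Z := (sumMap j n).left.base ⁻¹' V)
      (hVo.preimage (sumMap j n).left.continuous).isLocallyClosed ⟨e₀, by
        show (sumMap j n).left.base e₀ ∈ V
        rw [he₀]; exact (hVW.symm ▸ hw₀ : w₀ ∈ vI.subschemeι ⁻¹' V)⟩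
    exact ⟨z, hz⟩
  obtain ⟨z₀, hz₀⟩ := hVne
  obtain ⟨c₁, d₁, hcd⟩ := exists_two_points (k := k) (C := C) hdim
  have hη : ∀ (S : Set (pw k C (n + 1)).left), IsOpen S → S.Nonempty → genericPoint (pw k C (n + 1)).left ∈ S :=
    fun S hS hne => ((genericPoint_spec _).mem_open_set_iff hS).2 (by simpa using hne)
  let Gd : Set (pw k C (n + 1)).left :=
    (sumMap j (n + 1)).left.base ⁻¹' O ∩ ((⋂ e, (tB e)ᶜ) ∩ dBᶜ)
  have hGd : IsOpen Gd :=
    (O.isOpen.preimage (sumMap j (n + 1)).left.continuous).inter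
      ((isOpen_iInter_of_finite fun e => (htB e).isOpen_compl).inter hdB.isOpen_compl)
  have hGne : Gd.Nonempty := by
    refine ⟨genericPoint (pw k C (n + 1)).left, ?_, Set.mem_iInter.2 fun e => ?_, ?_⟩
    · obtain ⟨o, ho⟩ := hO
      obtain ⟨p, hp⟩ := (hn ▸ surjective_sumMap hdim σ hσ hJ j hj : Function.Surjective (sumMap j (n + 1)).left.base) o
      exact hη _ (O.isOpen.preimage (sumMap j (n + 1)).left.continuous) ⟨p, show _ ∈ (O : Set J.left) from hp.symm ▸ ho⟩
    · let y : 𝟙_ (Over (Spec (CommRingCat.of k))) ⟶ pw k C (n + 1) :=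
        mkPt fun l => Fin.cons (α := fun _ => Torelli22.Pts k C) ⟨σ, hσ⟩ (coord z₀) (e.symm l)
      refine hη _ (htB e).isOpen_compl ⟨CurvePts22.pt y.left, fun h => h ?_⟩
      show CurvePts22.pt ((y ≫ tl e) ≫ sumMap j n).left ∈ V
      rw [show y ≫ tl e = z₀ from pw_hom_ext fun i => by
        rw [Category.assoc, tl_prj]
        refine Over.OverMorphism.ext ((WidePullback.lift_π _ _ _ _ _).trans ?_)
        show (Fin.cons (α := fun _ => Torelli22.Pts k C) ⟨σ, hσ⟩ (coord z₀) (e.symm (e i.succ))).1 = _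
        rw [Equiv.symm_apply_apply, Fin.cons_succ]
        rfl]
      exact hz₀
    · rw [Set.mem_compl_iff, Set.mem_iUnion]
      rintro ⟨⟨⟨i, i'⟩, hii⟩, hp⟩
      refine hη _ ((isClosed_range dg).preimage (pair i i').left.continuous).isOpen_compl ?_ hp
      let y : 𝟙_ (Over (Spec (CommRingCat.of k))) ⟶ pw k C (n + 1) :=
        mkPt fun l => if l = i then ⟨c₁.left, Over.w c₁⟩ else ⟨d₁.left, Over.w d₁⟩
      refine ⟨CurvePts22.pt y.left, fun h => ?_⟩
      obtain ⟨x, hx⟩ := exists_point_eq dg (y ≫ pair i i') h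
      have e1 := congrArg (· ≫ fst X₁ X₁) hx
      have e2 := congrArg (· ≫ snd X₁ X₁) hx
      simp only [pair, dg, Category.assoc, lift_fst, lift_snd, Category.comp_id] at e1 e2
      refine hcd (Over.OverMorphism.ext ?_)
      have e3 := congrArg CommaMorphism.left (e1.symm.trans e2)
      simpa [y, mkPt, hii.symm] using e3
  obtain ⟨y₁, hy₁O, hy₁T, hy₁D⟩ := exists_point_mem (P := pw k C (n + 1)) hGd.isLocallyClosed hGne
  -- the open set
  have himg : IsClosed ((sumMap j (n + 1)).left.base '' Bad) := by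
    haveI : IsProper ((sumMap j (n + 1)).left ≫ J.hom) := by rw [Over.w (sumMap j (n + 1))]; infer_instance
    haveI : IsProper (sumMap j (n + 1)).left := IsProper.of_comp _ J.hom
    exact (sumMap j (n + 1)).left.isClosedMap _ ((htB 1).union hdB)
  let U : J.left.Opens := O ⊓ ⟨_, himg.isOpen_compl⟩
  -- points over the same good point are permutations of each other
  have hperm : ∀ y y' : 𝟙_ (Over (Spec (CommRingCat.of k))) ⟶ pw k C (n + 1),
      CurvePts22.pt (y ≫ sumMap j (n + 1)).left ∈ O → y' ≫ sumMap j (n + 1) = y ≫ sumMap j (n + 1) →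
      ∀ i, ∃ i', y' ≫ prj i = y ≫ prj i' := fun y y' hy he i => by
    have h := hfib y ((forall_base_iff _ _).2 hy) _ y' (by rw [he, toUnit_unique (toUnit _) (𝟙 _), Category.id_comp]) i
    have h' : (∏ i', (y ≫ prj i').left.ker) ≤ (y' ≫ prj i).left.ker := by
      rw [← Scheme.IdealSheafData.map_bot, Scheme.IdealSheafData.le_map_iff_comap_le, h]
    by_contra hne
    push Not at hne
    have hsup : ∀ (s : Finset (Fin (n + 1))), s.Nonempty → (∏ i' ∈ s, (y ≫ prj i').left.ker) ⊔ (y' ≫ prj i).left.ker = ⊤ := by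
      intro s hs
      induction hs using Finset.Nonempty.cons_induction with
      | singleton b => rw [Finset.prod_singleton]; exact pts_sup _ _ (hne b).symm
      | cons b t hbt _ ih => rw [Finset.prod_cons]; exact mul_sup_eq_top (pts_sup _ _ (hne b).symm) ih
    have h2 := hsup Finset.univ Finset.univ_nonempty
    rw [sup_eq_right.2 h', Scheme.Hom.ker_eq_top_iff_isEmpty] at h2
    exact h2.false (IsLocalRing.closedPoint k)
  refine ⟨U, ⟨CurvePts22.pt (y₁ ≫ sumMap j (n + 1)).left, hy₁O, ?_⟩, fun a ha => ?_⟩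
  · rintro ⟨p, hp, hpa⟩
    obtain ⟨y', hy'⟩ := exists_point_mem (P := pw k C (n + 1))
      (Z := Bad ∩ (sumMap j (n + 1)).left.base ⁻¹' {CurvePts22.pt (y₁ ≫ sumMap j (n + 1)).left})
      (((htB 1).union hdB).inter (IsClosed.preimage (sumMap j (n + 1)).left.continuous (by
        rw [← CurvePts22.range_eq]
        exact JacPts22.isClosed_range (P := 𝟙_ (Over (Spec (CommRingCat.of k)))) (y₁ ≫ sumMap j (n + 1))))).isLocallyClosed
      ⟨p, hp, hpa⟩
    have he : y' ≫ sumMap j (n + 1) = y₁ ≫ sumMap j (n + 1) :=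
      Over.OverMorphism.ext (JacPts22.ext_of_pt_eq J.hom (Over.w _) (Over.w _) hy'.2)
    choose f hf using hperm y₁ y' hy₁O he
    have hy₁O' : CurvePts22.pt (y' ≫ sumMap j (n + 1)).left ∈ O := by rw [he]; exact hy₁O
    choose f' hf' using hperm y' y₁ hy₁O' he.symm
    have hinj : ∀ i i', y₁ ≫ prj i = y₁ ≫ prj i' → i = i' := fun i i' e => by
      by_contra hne
      exact hy₁D ((hdB' y₁).2 ⟨i, i', hne, e⟩)
    have hff : ∀ i, f (f' i) = i := fun i => hinj _ _ ((hf (f' i)).symm.trans (hf' i).symm)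
    let e : Equiv.Perm (Fin (n + 1)) :=
      Equiv.ofBijective f (Finite.surjective_iff_bijective.1 fun i => ⟨f' i, hff i⟩)
    rcases hy'.1 with h | h
    · refine (Set.mem_iInter.1 hy₁T e) ?_
      show CurvePts22.pt ((y₁ ≫ tl e) ≫ sumMap j n).left ∈ Vᶜ
      rw [show y₁ ≫ tl e = y' ≫ tl 1 from pw_hom_ext fun i => by
        rw [Category.assoc, Category.assoc, tl_prj, tl_prj]
        exact (hf i.succ).symm]
      exact h
    · obtain ⟨i, i', hne, ei⟩ := (hdB' y').1 h
      exact hne (e.injective (hinj _ _ (((hf i).symm.trans ei).trans (hf i'))))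
  obtain ⟨haO, haB⟩ := ha
  obtain ⟨y, hya⟩ := exists_point_eq (sumMap j (n + 1)) a
    ((hn ▸ surjective_sumMap hdim σ hσ hJ j hj : Function.Surjective (sumMap j (n + 1)).left.base) _)
  have hgoodpt : ∀ y' : 𝟙_ (Over (Spec (CommRingCat.of k))) ⟶ pw k C (n + 1), y' ≫ sumMap j (n + 1) = a →
      CurvePts22.pt y'.left ∉ Bad := fun y' h hmem => haB ⟨_, hmem, by rw [← h]; rfl⟩
  refine ⟨y, hya, le_antisymm ?_ ?_⟩
  · -- the points lie on the translate
    refine le_prod_of_forall _ (fun i i' hii => pts_sup _ _ fun e => hgoodpt y hya (Or.inr ((hdB' y).2 ⟨i, i', hii, e⟩)))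
      _ (fun i => ?_) _ Finset.univ_nonempty
    rw [← Scheme.IdealSheafData.map_bot, Scheme.IdealSheafData.le_map_iff_comap_le,
      ← Scheme.IdealSheafData.comap_comp, ← Scheme.IdealSheafData.le_map_iff_comap_le, Scheme.IdealSheafData.map_bot]
    refine Modif26.vanishingIdeal_le_ker _ _ ?_
    let E : 𝟙_ (Over (Spec (CommRingCat.of k))) ⟶ pw k C n := mkPt fun l => coord y (i.succAbove l)
    have hE : (y ≫ prj i) ≫ hMap j a = E ≫ sumMap j n := by
      rw [hMap, MonObj.comp_mul, GrpObj.comp_inv, ← Category.assoc _ (toUnit _) a, toUnit_unique (_ ≫ toUnit _) (𝟙 _),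
        Category.id_comp, ← hya, comp_sumMap, comp_sumMap, Fin.prod_univ_succAbove _ i, inv_mul_cancel_left]
      exact Finset.prod_congr rfl fun l _ => congrArg (· ≫ j) (mkPt_prj (fun l => y ≫ prj (i.succAbove l)) l).symm
    rintro _ ⟨p, rfl⟩
    refine ⟨E.left p, ?_⟩
    show ((E ≫ sumMap j n).left) p = _
    rw [← hE]
    rfl
  · -- the translate is contained in the divisor
    let IX := vI.comap (hMap j a).left
    let Xo : Over (Spec (CommRingCat.of k)) := Over.mk (IX.subschemeι ≫ (C ↘ Spec (CommRingCat.of k)))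
    let iX : Xo ⟶ X₁ := Over.homMk IX.subschemeι rfl
    let u : IX.subscheme ⟶ vI.subscheme := Scheme.IdealSheafData.subschemeMap IX vI (hMap j a).left
      (Scheme.IdealSheafData.le_map_comap _ _)
    have hu : u ≫ vI.subschemeι = (iX ≫ hMap j a).left := Scheme.IdealSheafData.subschemeMap_subschemeι _ _ _ _
    haveI : IsProper Xo.hom := inferInstanceAs (IsProper (IX.subschemeι ≫ (C ↘ Spec (CommRingCat.of k))))
    have hrange : Set.range u ⊆ W := by
      rintro _ ⟨p, rfl⟩
      rw [← hVW]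
      by_contra hp
      have hmem : (iX ≫ hMap j a).left.base p ∈ Set.range (iX ≫ hMap j a).left.base ∩ Vᶜ := ⟨⟨p, rfl⟩, fun h => hp (by
        show (u ≫ vI.subschemeι) p ∈ V
        rw [hu]; exact h)⟩
      refine (range_inter_subset (T := ∅) (iX ≫ hMap j a) hVo.isClosed_compl isClosed_empty (fun x hx => ?_) hmem).elim
      obtain ⟨E, hE⟩ := exists_point_eq (sumMap j n) (x ≫ iX ≫ hMap j a) (by
        rw [← hrangeι]
        refine ⟨u (CurvePts22.pt x.left), ?_⟩
        show (u ≫ vI.subschemeι) _ = _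
        rw [hu]; rfl)
      let y' : 𝟙_ (Over (Spec (CommRingCat.of k))) ⟶ pw k C (n + 1) :=
        mkPt (Fin.cons ⟨(x ≫ iX).left, Over.w (x ≫ iX)⟩ (coord E))
      have h0 : y' ≫ prj 0 = x ≫ iX := Over.OverMorphism.ext (WidePullback.lift_π _ _ _ _ 0)
      have hS : ∀ i : Fin n, y' ≫ prj i.succ = E ≫ prj i := fun i =>
        Over.OverMorphism.ext (WidePullback.lift_π _ _ _ _ i.succ)
      have hy' : y' ≫ sumMap j (n + 1) = a := by
        rw [comp_sumMap, Fin.prod_univ_succ, h0, Finset.prod_congr rfl fun i _ => congrArg (· ≫ j) (hS i),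
          ← comp_sumMap, hE, hMap, ← Category.assoc x, MonObj.comp_mul, GrpObj.comp_inv, mul_inv_cancel_left,
          ← Category.assoc _ (toUnit _) a, toUnit_unique (_ ≫ toUnit _) (𝟙 _), Category.id_comp]
      refine hgoodpt y' hy' (Or.inl ?_)
      show CurvePts22.pt ((y' ≫ tl 1) ≫ sumMap j n).left ∈ Vᶜ
      rw [show y' ≫ tl 1 = E from pw_hom_ext fun i => by rw [Category.assoc, tl_prj]; exact hS i, hE]
      exact hx
    let Wo : vI.subscheme.Opens := ⟨W, hWo⟩
    let V₀ : (pw k C n).left.Opens := q ⁻¹ᵁ Wo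
    haveI : Flat (V₀.ι ≫ q) := Descend.flat_of_stalk_on q V₀ fun x hx => hWflat x hx
    haveI : IsLocallyNoetherian (pw k C n).left := LocallyOfFiniteType.isLocallyNoetherian (pw k C n).hom
    let f := pullback.fst u (V₀.ι ≫ q)
    haveI : Surjective f := ⟨fun p => by
      have h1 : u p ∈ Set.range (V₀.ι ≫ q) := by
        have h2 : vI.subschemeι (u p) ∈ Set.range (sumMap j n).left.base := hrangeι ▸ ⟨_, rfl⟩
        obtain ⟨e, he⟩ := h2
        have h3 : q e = u p := vI.subschemeι.isClosedEmbedding.injective (by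
          rw [← Scheme.Hom.comp_apply, hq]; exact he)
        exact ⟨⟨e, show q e ∈ W from h3 ▸ hrange ⟨p, rfl⟩⟩, h3⟩
      have h4 : p ∈ Set.range f := by rw [Scheme.Pullback.range_fst]; exact h1
      exact h4⟩
    let T : Over (Spec (CommRingCat.of k)) := Over.mk (f ≫ IX.subschemeι ≫ (C ↘ Spec (CommRingCat.of k)))
    let c : T ⟶ X₁ := Over.homMk (f ≫ IX.subschemeι) (Category.assoc _ _ _)
    let E : T ⟶ pw k C n := Over.homMk (pullback.snd u (V₀.ι ≫ q) ≫ V₀.ι) (by
      show (_ ≫ V₀.ι) ≫ (pw k C n).hom = f ≫ IX.subschemeι ≫ (C ↘ Spec (CommRingCat.of k))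
      rw [← Over.w (sumMap j n), ← hq]
      simp only [Category.assoc]
      rw [← Category.assoc V₀.ι q, ← pullback.condition_assoc, reassoc_of% hu, Over.w]
      rfl)
    have hcE : E ≫ sumMap j n = c ≫ hMap j a := by
      apply Over.OverMorphism.ext
      show (pullback.snd u (V₀.ι ≫ q) ≫ V₀.ι) ≫ (sumMap j n).left = (f ≫ IX.subschemeι) ≫ (hMap j a).left
      rw [← hq]
      simp only [Category.assoc]
      rw [← Category.assoc V₀.ι q, ← pullback.condition_assoc, hu]
      rfl
    let x : T ⟶ pw k C (n + 1) :=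
      Over.homMk (WidePullback.lift T.hom
        (fun i => ((Fin.cons c fun l => E ≫ prj l : Fin (n + 1) → (T ⟶ X₁)) i).left)
        fun i => Over.w ((Fin.cons c fun l => E ≫ prj l : Fin (n + 1) → (T ⟶ X₁)) i)) (WidePullback.lift_base _ _ _ _)
    have hxi : ∀ i, x ≫ prj i = (Fin.cons c fun l => E ≫ prj l : Fin (n + 1) → (T ⟶ X₁)) i := fun i =>
      Over.OverMorphism.ext (WidePullback.lift_π _ _ _ _ i)
    have hx : x ≫ sumMap j (n + 1) = toUnit T ≫ y ≫ sumMap j (n + 1) := by
      rw [hya, comp_sumMap, Fin.prod_univ_succ, hxi, Fin.cons_zero]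
      simp only [hxi, Fin.cons_succ]
      rw [← comp_sumMap, hcE, hMap, MonObj.comp_mul, GrpObj.comp_inv, mul_inv_cancel_left, ← Category.assoc c,
        toUnit_unique (c ≫ toUnit _) (toUnit T)]
    have hK := hfib y ((forall_base_iff _ _).2 (hya.symm ▸ haO)) T x hx 0
    rw [hxi, Fin.cons_zero] at hK
    exact le_of_flat_cover f c.left (𝟙 _) (Category.id_comp _) hK

end Groth.Agent.Riemann22
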