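import Groth.Agent.Lib.Riemann22.Theta
import Groth.Agent.Lib.SmoothReg17.Basic
import Groth.Agent.Lib.RegLoc.UFD
import Groth.Agent.Lib.ProjDual12.Trans
import Groth.Agent.Lib.DimF18.Prod
import Groth.Agent.S1684
import Groth.Agent.Lib.JacPts22.CurveJacobian
import Groth.Agent.Lib.IsQuot25.Desc
import Groth.Agent.S11992

/-!
# The theta divisor is an effective Cartier divisor
-/

set_option autoImplicit false
set_option linter.style.haveILetI false
set_option linter.unusedSectionVars false
set_option backward.isDefEq.respectTransparency false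
set_option backward.isDefEq.respectTransparency.types false
set_option maxHeartbeats 1000000

universe u

open CategoryTheory CategoryTheory.Limits AlgebraicGeometry TopologicalSpace Opposite MonoidalCategory
  CartesianMonoidalCategory MonObj

noncomputable section

namespace Groth.Agent.Riemann22

open Groth.Agent.Abel10 (pc pc_comp pc_id)
open Groth.Agent.JacPts22
open Groth.Agent.Abel10 Groth.Agent.PicRep20
open Groth.Agent.PicDesc21 (isInvertibleCl_pull)

noncomputable local instance instLawThetaCartier (Y : Scheme.{u}) : PicGrp.Law Y := M2.law Y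

variable {k : Type u} [Field k] {C : Scheme.{u}} [C.Over (Spec (CommRingCat.of k))]
  [IsProper (C ↘ Spec (CommRingCat.of k))] [Smooth (C ↘ Spec (CommRingCat.of k))]
  [GeometricallyConnected (C ↘ Spec (CommRingCat.of k))] [IsIntegral C]
  [GeometricallyIrreducible (C ↘ Spec (CommRingCat.of k))]
  (hdim : topologicalKrullDim C = 1)
  {σ : Spec (CommRingCat.of k) ⟶ C} (hσ : σ ≫ (C ↘ Spec (CommRingCat.of k)) = 𝟙 _)
  {J : Over (Spec (CommRingCat.of k))} [GrpObj J] [IsCommMonObj J]
  {ψ : (ModFun.PicDeg (C ↘ Spec (CommRingCat.of k)) 0).Hom ⊤ J}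
  (hJ : Jac.IsJacobian (C ↘ Spec (CommRingCat.of k)) ⊤ J ψ)
  (j : Over.mk (C ↘ Spec (CommRingCat.of k)) ⟶ J)
  (hj : Jac.IsAbelJacobiAt (C ↘ Spec (CommRingCat.of k)) σ ψ j)

include hdim hσ hJ hj

variable [IsAlgClosed k]

/-- The image of the power of the curve of order one less than the genus is an effective Cartier divisor. -/
theorem isEffCartierIdeal_theta {n : ℕ} (hn : Curv2.genus k C = n + 1)
    (hcl : IsClosed (Set.range (sumMap j n).left.base)) :
    BlowUp.IsEffCartierIdeal (Scheme.IdealSheafData.vanishingIdeal ⟨_, hcl⟩) := by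
  classical
  obtain ⟨hJp, hJs, hJg⟩ := jacobian_props hdim σ hσ hJ
  haveI := hJp
  haveI := hJs
  haveI := hJg
  haveI : IsIntegral J.left := GeometricallyIntegral.isIntegral_of_subsingleton J.hom
  haveI : IsLocallyNoetherian J.left := LocallyOfFiniteType.isLocallyNoetherian J.hom
  haveI : ∀ m, IsIntegral (pw k C m).left := fun m => by
    haveI := geometricallyIntegral_pw (k := k) (C := C) m
    exact GeometricallyIntegral.isIntegral_of_subsingleton (pw k C m).hom
  let X₁ : Over (Spec (CommRingCat.of k)) := Over.mk (C ↘ Spec (CommRingCat.of k))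
  haveI : IsProper X₁.hom := ‹IsProper (C ↘ Spec (CommRingCat.of k))›
  let vI := Scheme.IdealSheafData.vanishingIdeal ⟨_, hcl⟩
  haveI : IsReduced vI.subscheme := RedSepLib.isReduced_vanishingIdeal_subscheme _
  let Θo : Over (Spec (CommRingCat.of k)) := Over.mk (vI.subschemeι ≫ J.hom)
  let iΘ : Θo ⟶ J := Over.homMk vI.subschemeι rfl
  haveI : IsProper Θo.hom := inferInstanceAs (IsProper (vI.subschemeι ≫ J.hom))
  let q : (pw k C n).left ⟶ vI.subscheme :=
    IsClosedImmersion.lift vI.subschemeι (sumMap j n).left (by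
      rw [Scheme.IdealSheafData.ker_subschemeι]
      exact Modif26.vanishingIdeal_le_ker _ _ subset_rfl)
  have hq : q ≫ vI.subschemeι = (sumMap j n).left := IsClosedImmersion.lift_fac _ _ _
  let qo : pw k C n ⟶ Θo := Over.homMk q (by
    show q ≫ vI.subschemeι ≫ J.hom = _
    rw [reassoc_of% hq, Over.w (sumMap j n)])
  have hqo : qo ≫ iΘ = sumMap j n := Over.OverMorphism.ext hq
  have hqs : Function.Surjective q := fun θ => by
    have h1 : vI.subschemeι θ ∈ Set.range vI.subschemeι := ⟨θ, rfl⟩
    rw [Scheme.IdealSheafData.range_subschemeι, Scheme.IdealSheafData.coe_support_vanishingIdeal] at h1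
    obtain ⟨e, he⟩ := h1
    exact ⟨e, vI.subschemeι.isClosedEmbedding.injective (by rw [← Scheme.Hom.comp_apply, hq]; exact he)⟩
  haveI : IrreducibleSpace vI.subscheme := by
    have h2 := (IrreducibleSpace.isIrreducible_univ (pw k C n).left).image q q.continuous.continuousOn
    rw [Set.image_univ, hqs.range_eq] at h2
    exact (irreducibleSpace_def _).2 h2
  haveI : IsIntegral vI.subscheme := isIntegral_of_irreducibleSpace_of_isReduced _
  haveI : IrreducibleSpace ↥Θo.left := inferInstanceAs (IrreducibleSpace vI.subscheme)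
  -- the dimension
  have hJdim : VarDim.sdim J.hom (genericPoint J.left) = n + 1 := by
    have h1 := VarDim.dim_eq_sdim_genericPoint J.hom
    rw [dim_jacobian hdim σ hσ hJ, hn] at h1
    exact_mod_cast h1.symm
  let h : X₁ ⊗ Θo ⟶ J := (fst X₁ Θo ≫ j) * (snd X₁ Θo ≫ iΘ)
  let l : pw k C (n + 1) ⟶ X₁ ⊗ Θo := lift (prj 0) (tl 1 ≫ qo)
  have hlh : l ≫ h = sumMap j (n + 1) := by
    rw [← Category.id_comp (sumMap j (n + 1)), comp_sumMap, Fin.prod_univ_succ, MonObj.comp_mul]
    simp only [Category.id_comp]
    simp only [l, lift_fst_assoc, lift_snd_assoc, Category.assoc, hqo]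
    rw [comp_sumMap]
    exact congrArg (_ * ·) (Finset.prod_congr rfl fun i _ => congrArg (· ≫ j) (tl_prj 1 i))
  obtain ⟨p, hp⟩ := (hn ▸ surjective_sumMap hdim σ hσ hJ j hj : Function.Surjective (sumMap j (n + 1)).left.base)
    (genericPoint J.left)
  let z : (X₁ ⊗ Θo).left := l.left p
  have hz : h.left z = genericPoint J.left := by
    rw [← hp, ← hlh]; rfl
  haveI : LocallyOfFiniteType (h.left ≫ J.hom) := by
    rw [Over.w h]
    exact inferInstanceAs (LocallyOfFiniteType (pullback.fst X₁.hom Θo.hom ≫ X₁.hom))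
  haveI : LocallyOfFiniteType h.left := locallyOfFiniteType_of_comp h.left J.hom
  have hge : n + 1 ≤ VarDim.sdim X₁.hom ((fst X₁ Θo).left z) + VarDim.sdim Θo.hom ((snd X₁ Θo).left z) := by
    have h1 := VarDim.sdim_le_comp J.hom h.left z
    have h2 := (DimF18.sdim_prod X₁.hom Θo.hom z).1
    rw [hz, hJdim, Over.w h] at h1
    exact h1.trans h2
  let θg := genericPoint vI.subscheme
  have hC1 : VarDim.sdim X₁.hom ((fst X₁ Θo).left z) ≤ 1 := by
    have h1 := VarDim.dim_eq_iSup_sdim X₁.hom
    have h2 : ((VarDim.sdim X₁.hom ((fst X₁ Θo).left z) : ℕ) : WithBot ℕ∞) ≤ topologicalKrullDim X₁.left :=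
      h1.symm ▸ le_iSup (fun x => ((VarDim.sdim X₁.hom x : ℕ) : WithBot ℕ∞)) _
    rw [show topologicalKrullDim X₁.left = 1 from hdim] at h2
    exact_mod_cast h2
  have hθg : n ≤ VarDim.sdim Θo.hom θg := by
    have h1 : VarDim.sdim Θo.hom ((snd X₁ Θo).left z) ≤ VarDim.sdim Θo.hom θg := by
      by_cases he : θg = (snd X₁ Θo).left z
      · rw [← he]
      · exact (VarDim.sdim_lt_of_specializes Θo.hom (genericPoint_specializes _) he).le
    omega
  have hθgJ : VarDim.sdim J.hom (vI.subschemeι θg) = VarDim.sdim Θo.hom θg :=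
    (VarDim.sdim_comp_of_surjective J.hom vI.subschemeι θg).symm
  have hne : vI.subschemeι θg ≠ genericPoint J.left := by
    intro he
    have hall : ∀ x : J.left, x ∈ Set.range (sumMap j n).left.base := fun x => by
      refine (genericPoint_specializes x).mem_closed hcl ?_
      rw [← he]
      obtain ⟨e, hee⟩ := hqs θg
      exact ⟨e, by rw [← hee, ← Scheme.Hom.comp_apply, hq]⟩
    obtain ⟨U, hUne, hU⟩ := exists_open_fibre hdim hσ hJ j hj hn hcl
    haveI : LocallyOfFiniteType J.hom := inferInstance
    obtain ⟨b, hb⟩ := exists_point_mem (P := J) U.isOpen.isLocallyClosed hUne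
    obtain ⟨y, -, hy⟩ := hU b hb
    have hsupp := congrArg (fun I : C.IdealSheafData => (I.support : Set C)) hy
    simp only [Scheme.IdealSheafData.support_comap, Closeds.coe_preimage,
      Scheme.IdealSheafData.coe_support_vanishingIdeal] at hsupp
    have hclosed : ∀ (m : ℕ) (G : Fin m → (Spec (CommRingCat.of k) ⟶ C)) (s : Finset (Fin m)),
        (∀ i, G i ≫ (C ↘ Spec (CommRingCat.of k)) = 𝟙 _) → s.Nonempty →
        ∀ x ∈ ((∏ i ∈ s, (G i).ker).support : Set C), IsClosed ({x} : Set C) := by
      intro m G s hG hs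
      induction hs using Finset.Nonempty.cons_induction with
      | singleton i =>
        intro x hx
        haveI := CurvePts22.isClosedImmersion_of_section (C := C) (G i) (hG i)
        rw [Finset.prod_singleton, Scheme.Hom.support_ker, (G i).isClosedMap.isClosed_range.closure_eq] at hx
        have hx' : x = CurvePts22.pt (G i) := by
          have := CurvePts22.range_eq (G i)
          exact (this ▸ hx : x ∈ ({CurvePts22.pt (G i)} : Set C))
        rw [hx', ← CurvePts22.range_eq]
        exact (G i).isClosedMap.isClosed_range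
      | cons i t hit _ ih =>
        intro x hx
        rw [Finset.prod_cons, Scheme.IdealSheafData.support_mul] at hx
        rcases hx with hx | hx
        · haveI := CurvePts22.isClosedImmersion_of_section (C := C) (G i) (hG i)
          rw [Scheme.Hom.support_ker, (G i).isClosedMap.isClosed_range.closure_eq] at hx
          have hx' : x = CurvePts22.pt (G i) := by
            have := CurvePts22.range_eq (G i)
            exact (this ▸ hx : x ∈ ({CurvePts22.pt (G i)} : Set C))
          rw [hx', ← CurvePts22.range_eq]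
          exact (G i).isClosedMap.isClosed_range
        · exact ih x hx
    have hgen := hclosed _ (fun i => (y ≫ prj i).left) Finset.univ (fun i => Over.w (y ≫ prj i)) Finset.univ_nonempty
      (genericPoint C) (hsupp ▸ hall _)
    have hsub : Subsingleton C := ⟨fun a b => by
      have ha : a = genericPoint C := (genericPoint_specializes a).mem_closed hgen rfl
      have hb' : b = genericPoint C := (genericPoint_specializes b).mem_closed hgen rfl
      rw [ha, hb']⟩
    have h0 := topologicalKrullDim_zero_of_discreteTopology (X := C)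
    rw [hdim] at h0
    exact absurd h0 (by simp)
  haveI : IsNoetherianRing (J.left.presheaf.stalk (vI.subschemeι θg)) := inferInstance
  haveI := SmoothReg17.isRegularLocalRing_stalk J.hom (vI.subschemeι θg)
  obtain ⟨b, hb⟩ : ∃ b : ℕ, ringKrullDim (J.left.presheaf.stalk (vI.subschemeι θg)) = (b : WithBot ℕ∞) :=
    ⟨_, IsRegularLocalRing.spanFinrank_maximalIdeal.symm⟩
  have hsum := ProjDual12.ringKrullDim_stalk_add_sdim_of_pure J.hom (n := n + 1) (fun Z hZ => by
    rw [irreducibleComponents_eq_singleton, Set.mem_singleton_iff] at hZ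
    subst hZ
    rw [(Homeomorph.Set.univ J.left).isHomeomorph.topologicalKrullDim_eq, dim_jacobian hdim σ hσ hJ, hn]) hb
  have hlt : VarDim.sdim J.hom (vI.subschemeι θg) < n + 1 :=
    hJdim ▸ VarDim.sdim_lt_of_specializes J.hom (genericPoint_specializes _) hne.symm
  refine S1684.result J.left vI ?_ fun x _ => ?_
  · rw [hb, show b = 1 by omega]; rfl
  · haveI := SmoothReg17.isRegularLocalRing_stalk J.hom x
    exact ⟨inferInstance, RegLoc.ufd_of_isRegularLocalRing _⟩

end Groth.Agent.Riemann22
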