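import Groth.Agent.Lib.Riemann22.Class
import Groth.Agent.Lib.Riemann22.Cartier
import Groth.Agent.Lib.JacPts22.Albanese
import Groth.Agent.Lib.NS22.Endo
import Groth.Agent.Lib.PtsDetect19.Basic

/-!
# The pairing of the theta class restricted along the Abel map
-/

set_option autoImplicit false
set_option linter.style.haveILetI false
set_option linter.unusedSectionVars false
set_option backward.isDefEq.respectTransparency false
set_option backward.isDefEq.respectTransparency.types false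
set_option maxHeartbeats 1000000

universe u

open CategoryTheory CategoryTheory.Limits AlgebraicGeometry TopologicalSpace Opposite MonoidalCategory
  CartesianMonoidalCategory MonObj

noncomputable section

namespace Groth.Agent.Riemann22

open Groth.Agent.Abel10 (pc pc_comp pc_id)
open Groth.Agent.JacPts22
open Groth.Agent.Abel10 Groth.Agent.PicRep20
open Groth.Agent.PicDesc21 (isInvertibleCl_pull)

noncomputable local instance instLawThetaPoincare (Y : Scheme.{u}) : PicGrp.Law Y := M2.law Y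

variable {k : Type u} [Field k] [IsAlgClosed k] {C : Scheme.{u}} [C.Over (Spec (CommRingCat.of k))]
  [IsProper (C ↘ Spec (CommRingCat.of k))] [Smooth (C ↘ Spec (CommRingCat.of k))]
  [GeometricallyConnected (C ↘ Spec (CommRingCat.of k))] [IsIntegral C]
  [GeometricallyIrreducible (C ↘ Spec (CommRingCat.of k))]
  (hdim : topologicalKrullDim C = 1)
  {σ : Spec (CommRingCat.of k) ⟶ C} (hσ : σ ≫ (C ↘ Spec (CommRingCat.of k)) = 𝟙 _)
  {J : Over (Spec (CommRingCat.of k))} [GrpObj J] [IsCommMonObj J]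
  {ψ : (ModFun.PicDeg (C ↘ Spec (CommRingCat.of k)) 0).Hom ⊤ J}
  (hJ : Jac.IsJacobian (C ↘ Spec (CommRingCat.of k)) ⊤ J ψ)
  (j : Over.mk (C ↘ Spec (CommRingCat.of k)) ⟶ J)
  (hj : Jac.IsAbelJacobiAt (C ↘ Spec (CommRingCat.of k)) σ ψ j)

include hdim hσ hJ hj

/-- The theta class pairs the curve with a point to the class of the point. -/
theorem bil_theta {n : ℕ} (hn : Curv2.genus k C = n + 1)
    (hcl : IsClosed (Set.range (sumMap j n).left.base))
    (hE : BlowUp.IsEffCartierIdeal (Scheme.IdealSheafData.vanishingIdeal ⟨_, hcl⟩))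
    (b : 𝟙_ (Over (Spec (CommRingCat.of k))) ⟶ J) :
    (show PicLoc.PicSet C from Index22.bil (PicGrp.cls _ (M2.isInvertible_idealMod _ hE)) j (toUnit _ ≫ b)) =
      iota hdim J ψ hJ b := by
  obtain ⟨hJp, -, hJg⟩ := jacobian_props hdim σ hσ hJ
  haveI := hJp
  haveI := hJg
  set c₀ := PicGrp.cls _ (M2.isInvertible_idealMod _ hE) with hc₀
  let X₁ : Over (Spec (CommRingCat.of k)) := Over.mk (C ↘ Spec (CommRingCat.of k))
  have e1 : pc (Y' := C) (j⁻¹ : X₁ ⟶ J).left c₀ = (cN hdim σ hσ ψ hJ (n + 1) 1)⁻¹ := by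
    have h := pullback_theta_class hdim hσ hJ j hj hn hcl hE 1
    rw [show hMap j (1 : 𝟙_ (Over (Spec (CommRingCat.of k))) ⟶ J) = (j⁻¹ : X₁ ⟶ J) by
      rw [hMap, MonObj.comp_one, _root_.mul_one]] at h
    exact h
  have e2 : pc (Y' := C) (hMap j b).left c₀ =
      pc (Y' := C) (j⁻¹ : X₁ ⟶ J).left c₀ * (show PicLoc.PicSet C from Index22.bil c₀ (j⁻¹) (toUnit X₁ ≫ b)) := by
    show AlgEquiv22.pb (hMap j b) c₀ = _
    rw [hMap, Index22.pb_mul, AlgEquiv22.pb_const, _root_.mul_one]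
    rfl
  have e3 := pullback_theta_class hdim hσ hJ j hj hn hcl hE b
  rw [← hc₀] at e3
  erw [e2] at e3
  rw [e1, cN, cN, map_one, _root_.one_mul, inv_inv, mul_inv_rev, inv_inv, mul_right_inj] at e3
  have e4 : (show PicLoc.PicSet C from Index22.bil c₀ (j⁻¹) (toUnit X₁ ≫ b)) =
      (show PicLoc.PicSet C from Index22.bil c₀ j (toUnit X₁ ≫ b))⁻¹ := by
    show Index22.bil c₀ (j⁻¹) _ = (Index22.bil c₀ j _)⁻¹
    rw [← zpow_neg_one, ← zpow_neg_one, Index22.bil_zpow_left]
  exact inv_injective (e4.symm.trans e3)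

/-- The Mumford module of the reflected theta divisor, pulled back to the curve, is the universal family. -/
theorem iso_univFamily {n : ℕ} (hn : Curv2.genus k C = n + 1)
    (hcl : IsClosed (Set.range (sumMap j n).left.base))
    (hE : BlowUp.IsEffCartierIdeal (Scheme.IdealSheafData.vanishingIdeal ⟨_, hcl⟩))
    {Pu : (PicF.XT (C ↘ Spec (CommRingCat.of k)) J).Modules}
    (hPu : ModFun.IsUnivFamily ⊤ (ModFun.PicDeg (C ↘ Spec (CommRingCat.of k)) 0) J Pu)
    (hPn : Jac.IsNormAlong (C ↘ Spec (CommRingCat.of k)) σ hσ J Pu)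
    (hT : (⊤ : ObjectProperty (Over (Spec (CommRingCat.of k)))) J) (hPuψ : ψ.app J Pu hT hPu.1 = 𝟙 J)
    {N : (PicF.XT (C ↘ Spec (CommRingCat.of k)) J).Modules} (hN : PicF.IsInvertible N)
    (hNc : PicGrp.cls N hN = pc (Y' := PicF.XT (C ↘ Spec (CommRingCat.of k)) J)
      (PicF.XTmap (C ↘ Spec (CommRingCat.of k)) ((𝟙 J)⁻¹) ≫ AbDual.bcMap j J)
      (Index22.bil (AlgEquiv22.pb ((𝟙 J)⁻¹) (PicGrp.cls _ (M2.isInvertible_idealMod _ hE))⁻¹) (fst J J) (snd J J))) :
    Nonempty (N ≅ Pu) := by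
  obtain ⟨hJp, hJs, hJg⟩ := jacobian_props hdim σ hσ hJ
  haveI := hJp
  haveI := hJs
  haveI := hJg
  haveI : IsIntegral J.left := GeometricallyIntegral.isIntegral_of_subsingleton J.hom
  set c₀ := PicGrp.cls _ (M2.isInvertible_idealMod _ hE) with hc₀
  have hd : ∀ {V : Over (Spec (CommRingCat.of k))} (f g : V ⟶ J),
      Index22.bil (AlgEquiv22.pb ((𝟙 J)⁻¹) c₀⁻¹) f g = (Index22.bil c₀ f g)⁻¹ := fun {V} f g => by
    have e : ∀ x : V ⟶ J, x ≫ (𝟙 J)⁻¹ = x ^ (-1 : ℤ) := fun x => by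
      rw [GrpObj.comp_inv, Category.comp_id, zpow_neg_one]
    have e1 : Index22.bil (AlgEquiv22.pb ((𝟙 J)⁻¹) c₀⁻¹) f g = Index22.bil c₀⁻¹ (f ≫ (𝟙 J)⁻¹) (g ≫ (𝟙 J)⁻¹) := by
      simp only [Index22.bil, AlgEquiv22.pb_pb]
      rw [GrpObj.comp_inv, GrpObj.comp_inv, GrpObj.comp_inv, Category.comp_id, Category.comp_id, Category.comp_id,
        mul_inv]
    rw [e1, e, e, Index22.bil_zpow, show (-1 : ℤ) * -1 = 1 from rfl, zpow_one]
    simp only [Index22.bil, map_inv, mul_inv, inv_inv]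
  -- the value at a point
  have hpt : ∀ b : 𝟙_ (Over (Spec (CommRingCat.of k))) ⟶ J,
      pc (rho k C ≫ PicF.XTmap (C ↘ Spec (CommRingCat.of k)) b) (PicGrp.cls N hN) = iota hdim J ψ hJ b := fun b => by
    rw [hNc]
    let l : Over.mk (C ↘ Spec (CommRingCat.of k)) ⟶ J ⊗ J := lift j (toUnit _ ≫ b⁻¹)
    have el : (rho k C ≫ PicF.XTmap (C ↘ Spec (CommRingCat.of k)) b) ≫
        PicF.XTmap (C ↘ Spec (CommRingCat.of k)) ((𝟙 J)⁻¹) ≫ AbDual.bcMap j J = l.left := by
      apply pullback.hom_ext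
      · simp [rho, PicF.XTmap, AbDual.bcMap, l]
        exact Category.id_comp _
      · simp only [rho, PicF.XTmap, AbDual.bcMap, Category.assoc, pullback.lift_snd, pullback.lift_snd_assoc,
          Category.comp_id]
        show _ = (l ≫ snd J J).left
        rw [lift_snd, show b⁻¹ = b ≫ (𝟙 J)⁻¹ by rw [GrpObj.comp_inv, Category.comp_id], ← Category.assoc, Over.comp_left, Over.comp_left, Over.toUnit_left]
        simp
    rw [pc_comp _ _ el]
    show AlgEquiv22.pb l _ = _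
    rw [NS22.pb_bil', lift_fst, lift_snd, hd]
    refine (congrArg (·⁻¹) (bil_theta hdim hσ hJ j hj hn hcl hE b⁻¹ :
      Index22.bil c₀ j (toUnit _ ≫ b⁻¹) = _)).trans ?_
    rw [map_inv, inv_inv]
  have hdN : ∀ t, PicTan20.degCl (C ↘ Spec (CommRingCat.of k)) J t (PicGrp.cls N hN).1 = 0 := fun t => by
    let η' : 𝟙_ (Over (Spec (CommRingCat.of k))) ⟶ J := 1
    have hNη : pc (PicF.XTmap (C ↘ Spec (CommRingCat.of k)) η') (PicGrp.cls N hN) = 1 := by
      refine rho_injective hdim _ _ ?_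
      show pc (rho k C) _ = pc (rho k C) _
      refine (pc_comp _ _ rfl _).trans ((hpt η').trans ?_)
      exact (map_one _).trans (map_one (pc (rho k C))).symm
    have hc : IsLocallyConstant fun t => PicTan20.degMod (C ↘ Spec (CommRingCat.of k)) J t N :=
      PicTan20.isLocallyConstant_degMod _ (fun s => (PicRep20.fiber_dim _ hdim s).le) J hN
    haveI : PreconnectedSpace J.left := PreirreducibleSpace.preconnectedSpace _
    have h0 := PicTan20.degCl_pull (C ↘ Spec (CommRingCat.of k)) η' (IsLocalRing.closedPoint k) (PicGrp.cls N hN).2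
    have h1 : PicTan20.degCl (C ↘ Spec (CommRingCat.of k)) _ (IsLocalRing.closedPoint k)
        (PicF.pullCl (PicF.XTmap (C ↘ Spec (CommRingCat.of k)) η') (PicGrp.cls N hN).1) = 0 :=
      (congrArg (PicTan20.degCl _ _ _) (congrArg Subtype.val hNη)).trans (deg_one₀ hdim _)
    rw [h0] at h1
    rw [show (PicGrp.cls N hN).1 = PicF.cl N from rfl, PicTan20.degCl_cl] at h1 ⊢
    exact (hc.apply_eq_of_preconnectedSpace t _).trans h1
  obtain ⟨-, -, -, ξ, hξ, hψ⟩ := exists_fine _ hdim σ hσ J ψ hJ.coarse.2.1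
  have hdP := PicRep20.degCl_famCls _ hdim 0 hPu.1
  have hPid : PicRep20.classify hξ (PicRep20.famCls _ 0 hPu.1) hdP = 𝟙 J := (hψ J Pu hPu.1).symm.trans hPuψ
  have hid : PicRep20.classify hξ (PicGrp.cls N hN) hdN = 𝟙 J := by
    refine PtsDetect19.hom_ext_points k _ _ fun w => ?_
    let b : 𝟙_ (Over (Spec (CommRingCat.of k))) ⟶ J := Over.homMk w.left (by simpa using Over.w w)
    suffices h : b ≫ PicRep20.classify hξ (PicGrp.cls N hN) hdN = b ≫ 𝟙 J by
      refine Over.OverMorphism.ext ?_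
      exact (congrArg CommaMorphism.left h : b.left ≫ _ = b.left ≫ _)
    rw [← hPid, ← PicRep20.classify_pc hξ b _ hdN fun t => (PicTan20.degCl_pull _ b t (PicGrp.cls N hN).2).trans (hdN _),
      ← PicRep20.classify_pc hξ b _ hdP fun t => (PicTan20.degCl_pull _ b t (PicRep20.famCls _ 0 hPu.1).2).trans (hdP _)]
    refine classify_congr hξ (rho_injective hdim _ _ ?_) _ _
    show pc (rho k C) _ = pc (rho k C) _
    refine ((pc_comp _ _ rfl _).trans (hpt b)).trans ?_
    let E := (Scheme.Modules.pullback (PicF.XTmap (C ↘ Spec (CommRingCat.of k)) b)).obj Pu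
    have hEi : PicF.IsInvertible E :=
      PicLoc.isInvertible_pullback _ ((M2.isInvertible_iff_isFinLocFreeOfRank_one Pu).2 hPu.1.1.2)
    have hE' : (ModFun.PicDeg (C ↘ Spec (CommRingCat.of k)) 0).ok _ E :=
      PicRep20.ok_of_class _ hdim 0 hEi fun t => (PicTan20.degCl_pull _ b t (PicRep20.famCls _ 0 hPu.1).2).trans (hdP _)
    have hb : ψ.app (T₀ k) E trivial hE' = b :=
      (ψ.natural b Pu trivial trivial hPu.1 hE').trans (by rw [hPuψ, Category.comp_id])
    have hi := iota_app hdim J ψ hJ (E := E) hE'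
    rw [hb] at hi
    rw [hi, cl₀, PicRep20.famCls]
    exact congrArg (pc (rho k C)) (PicGrp.pullHom_cls _ _ _ _).symm
  obtain ⟨m, hm⟩ := PicRep20.classify_spec hξ (PicGrp.cls N hN) hdN
  obtain ⟨m', hm'⟩ := PicRep20.classify_spec hξ (PicRep20.famCls _ 0 hPu.1) hdP
  have e1 : PicF.XTmap (C ↘ Spec (CommRingCat.of k)) (𝟙 J) = 𝟙 _ := by
    apply pullback.hom_ext <;> simp [PicF.XTmap]
  rw [hid, e1, pc_id] at hm
  rw [hPid, e1, pc_id] at hm'
  have k1 : pc (PicF.secT (C ↘ Spec (CommRingCat.of k)) σ hσ J) (PicGrp.cls N hN) = 1 := by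
    rw [hNc]
    let l : J ⟶ J ⊗ J := lift 1 (𝟙 J)⁻¹
    have el : PicF.secT (C ↘ Spec (CommRingCat.of k)) σ hσ J ≫
        PicF.XTmap (C ↘ Spec (CommRingCat.of k)) ((𝟙 J)⁻¹) ≫ AbDual.bcMap j J = l.left := by
      apply pullback.hom_ext
      · show _ = (l ≫ fst J J).left
        rw [lift_fst, show (1 : J ⟶ J) = toUnit J ≫ 1 from (MonObj.comp_one _).symm, ← base_comp_abel hdim hσ hJ j hj]
        simp [PicF.secT, PicF.XTmap, AbDual.bcMap]
      · show _ = (l ≫ snd J J).left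
        rw [lift_snd]
        simp [PicF.secT, PicF.XTmap, AbDual.bcMap]
        exact Category.id_comp _
    rw [pc_comp _ _ el]
    show AlgEquiv22.pb l _ = _
    rw [NS22.pb_bil', lift_fst, lift_snd, Index22.bil_one_left]
  have k2 : pc (PicF.secT (C ↘ Spec (CommRingCat.of k)) σ hσ J) (PicRep20.famCls _ 0 hPu.1) = 1 :=
    Subtype.ext (hPn.trans PicGrp.one_val.symm)
  rw [hm, map_mul, PicRep20.pc_secT_proj] at k1
  rw [hm', map_mul, PicRep20.pc_secT_proj] at k2
  have : m = m' := mul_left_cancel (k1.trans k2.symm)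
  subst this
  exact (PicGrp.cl_eq_cl_iff N Pu).1 (congrArg Subtype.val (hm.trans hm'.symm))

end Groth.Agent.Riemann22
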