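import Groth.Agent.Lib.Riemann22.Sections
import Groth.Agent.Lib.Riemann22.Locus
import Groth.Agent.Lib.Riemann22.Poincare
import Groth.Agent.Lib.CubeField.NonDegAmple
import Groth.Agent.Lib.CubeField.FinInst
import Groth.Agent.Lib.MumVan22.IsogEuler
import Groth.Agent.Lib.Index22.Twist
import Groth.Agent.Lib.NodeBlow14.Centre
import Groth.Agent.Lib.BlowUp26.Basic
import Groth.Agent.Lib.FMHyp13.NearZero
import Groth.Agent.Lib.RR22.Poly
import Groth.Agent.Lib.PicSep22.Smooth
import Groth.Agent.Lib.VB17.SmoothDuality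

/-!
# The theta divisor is a principal polarisation
-/

set_option autoImplicit false
set_option linter.style.haveILetI false
set_option linter.unusedSectionVars false
set_option backward.isDefEq.respectTransparency false
set_option backward.isDefEq.respectTransparency.types false
set_option maxHeartbeats 1000000

universe u

open CategoryTheory CategoryTheory.Limits AlgebraicGeometry TopologicalSpace Opposite MonoidalCategory
  CartesianMonoidalCategory MonObj

noncomputable section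

namespace Groth.Agent.Riemann22

open Groth.Agent.Abel10 (pc pc_comp pc_id)
open Groth.Agent.JacPts22
open Groth.Agent.Abel10 Groth.Agent.PicRep20

noncomputable local instance instLawThetaPrincipal (Y : Scheme.{u}) : PicGrp.Law Y := M2.law Y

variable {k : Type u} [Field k] [IsAlgClosed k] {C : Scheme.{u}} [C.Over (Spec (CommRingCat.of k))]
  [IsProper (C ↘ Spec (CommRingCat.of k))] [Smooth (C ↘ Spec (CommRingCat.of k))]
  [GeometricallyConnected (C ↘ Spec (CommRingCat.of k))]

theorem isIso_transl {J : Over (Spec (CommRingCat.of k))} [GrpObj J]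
    (b : 𝟙_ (Over (Spec (CommRingCat.of k))) ⟶ J) : IsIso (Jac.transl J b).left := by
  haveI : IsIso (Jac.transl J b) := ⟨Jac.transl J b⁻¹,
    by rw [comp_transl, Jac.transl, _root_.mul_assoc, ← MonObj.comp_mul, mul_inv_cancel, MonObj.comp_one, _root_.mul_one],
    by rw [comp_transl, Jac.transl, _root_.mul_assoc, ← MonObj.comp_mul, inv_mul_cancel, MonObj.comp_one, _root_.mul_one]⟩
  exact (inferInstance : IsIso ((Over.forget _).map (Jac.transl J b)))

/-- The theta module is ample with a single section and Euler characteristic one. -/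
theorem theta_principal (hdim : topologicalKrullDim C = 1) (g : ℕ) (hg : Curv2.genus k C = g) (hg1 : 1 ≤ g)
    {J : Over (Spec (CommRingCat.of k))} [GrpObj J] [IsCommMonObj J] [IsProper J.hom]
    {ψ : (ModFun.PicDeg (C ↘ Spec (CommRingCat.of k)) 0).Hom ⊤ J}
    (hJ : Jac.IsJacobian (C ↘ Spec (CommRingCat.of k)) ⊤ J ψ)
    (N : C.Modules) (hN : PicF.IsInvertible N) (hNdeg : Curv2.deg k C N 1 = (g : ℤ) - 1)
    (ΘJ : J.left.Modules) (hΘJ : Jac.IsThetaLB (C ↘ Spec (CommRingCat.of k)) 0 ψ N ΘJ) :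
    letI : J.left.Over (Spec (CommRingCat.of k)) := ⟨J.hom⟩
    GeometricallyIntegral J.hom ∧ topologicalKrullDim J.left = (g : WithBot ℕ∞) ∧ CohB1.IsAmple ΘJ ∧
      Index22.Conc ΘJ 0 ∧ Curv2.euler k J.left ΘJ = 1 := by
  classical
  letI : J.left.Over (Spec (CommRingCat.of k)) := ⟨J.hom⟩
  haveI : IsIntegral C := VB17.isIntegral_of_smooth (k := k) (X := C)
  haveI : GeometricallyIntegral (C ↘ Spec (CommRingCat.of k)) := PicSep22.geometricallyIntegral_of_smooth _
  obtain ⟨n, rfl⟩ : ∃ n, g = n + 1 := ⟨g - 1, by omega⟩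
  obtain ⟨σ, hσ, j, hj⟩ := exists_abel hdim hJ
  obtain ⟨-, hJs, hJg⟩ := jacobian_props hdim σ hσ hJ
  haveI := hJs
  haveI := hJg
  haveI : IsProper (J.left ↘ Spec (CommRingCat.of k)) := inferInstanceAs (IsProper J.hom)
  haveI : IsIntegral J.left := GeometricallyIntegral.isIntegral_of_subsingleton J.hom
  haveI : IsProper (pw k C n).hom := inferInstance
  have hdimJ : topologicalKrullDim J.left = ((n + 1 : ℕ) : WithBot ℕ∞) := by
    rw [dim_jacobian hdim σ hσ hJ, hg]
  have hcl : IsClosed (Set.range (sumMap j n).left.base) := JacPts22.isClosed_range (sumMap j n)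
  have hE := isEffCartierIdeal_theta hdim hσ hJ j hj hg hcl
  set c₀ := PicGrp.cls _ (M2.isInvertible_idealMod _ hE) with hc₀
  obtain ⟨a, ha⟩ := thetaLocus_eq hdim hJ hσ j hj hg hN (by rw [hNdeg]; push_cast; ring)
  haveI := isIso_transl (J := J) a
  -- the module of the untranslated divisor
  obtain ⟨L, hL, hLc⟩ := PicGrp.exists_eq_cls c₀⁻¹
  have hh0 := finrank_theta_eq_one hdim hσ hJ j hj hg hcl hE hL hLc.symm
  haveI : Nontrivial (Coh.HH J.left L 0) := by
    rw [← not_subsingleton_iff_nontrivial]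
    intro h
    rw [Module.finrank_zero_of_subsingleton] at hh0
    exact zero_ne_one hh0
  obtain ⟨s, hs⟩ := (AlgEquiv22.exists_hom_ne_zero_iff hL).1 inferInstance
  have hfix : ∀ y : 𝟙_ (Over (Spec (CommRingCat.of k))) ⟶ J,
      AlgEquiv22.pb (CubeField.trans₁ y) (PicGrp.cls L hL) = PicGrp.cls L hL → y = 1 := by
    intro y hy
    rw [← hLc, map_inv, inv_inj] at hy
    have e : Index22.bil c₀ (𝟙 J) (toUnit J ≫ y) = 1 := by
      rw [CubeField.trans₁, Index22.pb_mul, AlgEquiv22.pb_const, _root_.mul_one, AlgEquiv22.pb_id] at hy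
      exact mul_left_cancel (hy.trans (_root_.mul_one c₀).symm)
    have h := congrArg (AlgEquiv22.pb j) e
    rw [NS22.pb_bil', map_one, Category.comp_id, ← Category.assoc j, toUnit_unique (j ≫ toUnit J) (toUnit _)] at h
    refine iota_injective hdim J ψ hJ ?_
    rw [map_one, ← bil_theta hdim hσ hJ j hj hg hcl hE y]
    exact h
  have hampL : CohB1.IsAmple L := by
    refine CubeField.isAmple_of_finite_fixing CubeField.finH1 hL s hs ((Set.finite_singleton 1).subset ?_)
    intro y hy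
    refine hfix y ?_
    rw [AlgEquiv22.pb, PicGrp.pullHom_cls]
    exact (PicGrp.cls_eq_cls_iff _ _).2 hy
  have hnd : Index22.Nd (PicGrp.cls L hL) := AlgEquiv22.finite_fixing hampL
  obtain ⟨D, hD, eD⟩ := M2.exists_inverse hL
  obtain ⟨i, -, hi, -⟩ := Index22.exists_index hL hnd hD eD hdimJ
  obtain rfl : (0 : ℕ) = i := hi.unique inferInstance
  have hchi : Curv2.euler k J.left L = 1 := by
    rw [Curv2.euler, finsum_eq_single _ 0 fun m hm => by
      haveI := hi.1 m hm
      rw [Module.finrank_zero_of_subsingleton, Nat.cast_zero, mul_zero]]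
    rw [hh0]
    simp
  -- translate
  let t := Jac.transl J a
  let vI := Scheme.IdealSheafData.vanishingIdeal (⟨_, hcl⟩ : TopologicalSpace.Closeds J.left)
  have hE' : BlowUp.IsEffCartierIdeal (vI.comap t.left) := BlowUp26.isEffCartierIdeal_comap_flat hE t.left
  have hv : Scheme.IdealSheafData.vanishingIdeal
      ⟨Jac.thetaLocus (C ↘ Spec (CommRingCat.of k)) 0 ψ N, isClosed_closure⟩ = vI.comap t.left :=
    (congrArg Scheme.IdealSheafData.vanishingIdeal (TopologicalSpace.Closeds.ext ha)).trans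
      (NodeBlow14.comap_vanishingIdeal t.left ⟨_, hcl⟩).symm
  have hZ : BlowUp.IsEffCartierIdeal (Scheme.IdealSheafData.vanishingIdeal
      ⟨Jac.thetaLocus (C ↘ Spec (CommRingCat.of k)) 0 ψ N, isClosed_closure⟩) := by rw [hv]; exact hE'
  have hΘc : PicGrp.cls ΘJ hΘJ.1 = PicGrp.cls _ (PicLoc.isInvertible_pullback t.left hL) := by
    rw [← PicGrp.pullHom_cls t.left (M2.pullMul _) L hL, ← hLc, map_inv]
    refine eq_inv_of_mul_eq_one_left ?_
    have e : AlgEquiv22.pb t c₀ = PicGrp.cls _ (M2.isInvertible_idealMod _ hZ) :=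
      (cls_comap t.left hE hE').trans (cls_congr hv hZ hE').symm
    show _ * AlgEquiv22.pb t c₀ = 1
    rw [e]
    exact (PicGrp.cls_mul_cls_eq_one_iff hΘJ.1 _).2 hΘJ.2
  obtain ⟨e⟩ := (PicGrp.cls_eq_cls_iff _ _).1 hΘc
  refine ⟨hJg, hdimJ, Amp.isAmple_of_iso e.symm (Amp.isAmple_pullback_of_isAffineHom t.left hampL),
    (hi.pullback_iso t.left hL).congr e.symm, ?_⟩
  rw [CurveCoh17.euler_iso e, IsogEuler22.euler_pullback t 1 (fun y => congrFun ((Scheme.Hom.isIso_iff_finrank_eq _).1 inferInstance) y)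
    (CubeField.isCoh_of_isInvertible hL), hchi, Nat.cast_one, _root_.one_mul]

/-- Positive powers of the theta module. -/
theorem theta_pow (hdim : topologicalKrullDim C = 1) (g : ℕ) (hg : Curv2.genus k C = g) (hg1 : 1 ≤ g)
    {J : Over (Spec (CommRingCat.of k))} [GrpObj J] [IsCommMonObj J] [IsProper J.hom]
    {ψ : (ModFun.PicDeg (C ↘ Spec (CommRingCat.of k)) 0).Hom ⊤ J}
    (hJ : Jac.IsJacobian (C ↘ Spec (CommRingCat.of k)) ⊤ J ψ)
    (N : C.Modules) (hN : PicF.IsInvertible N) (hNdeg : Curv2.deg k C N 1 = (g : ℤ) - 1)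
    (ΘJ : J.left.Modules) (hΘJ : Jac.IsThetaLB (C ↘ Spec (CommRingCat.of k)) 0 ψ N ΘJ) (m : ℕ) (hm : 1 ≤ m) :
    letI : J.left.Over (Spec (CommRingCat.of k)) := ⟨J.hom⟩
    Index22.Conc (CohB1.tensorPow ΘJ m) 0 ∧ Curv2.euler k J.left (CohB1.tensorPow ΘJ m) = (m : ℤ) ^ g ∧
      Module.finrank k (Coh.HH J.left (CohB1.tensorPow ΘJ m) 0) = m ^ g := by
  letI : J.left.Over (Spec (CommRingCat.of k)) := ⟨J.hom⟩
  obtain ⟨hJg, hdimJ, hamp, hconc, hchi⟩ := theta_principal hdim g hg hg1 hJ N hN hNdeg ΘJ hΘJ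
  haveI := hJg
  haveI : IsIntegral J.left := GeometricallyIntegral.isIntegral_of_subsingleton J.hom
  obtain ⟨m, rfl⟩ : ∃ l, m = l + 1 := ⟨m - 1, by omega⟩
  have hpow := M2.isInvertible_tensorPow hamp.1 (m + 1)
  obtain ⟨s, hs⟩ := (AlgEquiv22.exists_hom_ne_zero_iff hamp.1).1 hconc.2
  haveI : Nontrivial (Coh.HH J.left (CohB1.tensorPow ΘJ (m + 1)) 0) :=
    (AlgEquiv22.exists_hom_ne_zero_iff hpow).2
      ⟨SecTwist.powHom s (m + 1), by rw [Amp.genLocus_powHom hamp.1]; exact hs⟩
  have hnd : Index22.Nd (PicGrp.cls _ hpow) :=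
    AlgEquiv22.finite_fixing ((Amp.isAmple_tensorPow_iff hamp.1 (Nat.succ_pos m)).2 hamp)
  obtain ⟨D, hD, eD⟩ := M2.exists_inverse hpow
  obtain ⟨i, -, hi, -⟩ := Index22.exists_index hpow hnd hD eD hdimJ
  obtain rfl : (0 : ℕ) = i := hi.unique inferInstance
  haveI : Smooth J.hom := NS22.smooth_hom J
  have he := FMHyp13.euler_tensorPow_ample hamp hdimJ (m + 1) (Nat.succ_pos m)
  rw [hchi, _root_.mul_one] at he
  refine ⟨hi, he, ?_⟩
  rw [Curv2.euler, finsum_eq_single _ 0 fun l hl => by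
    haveI := hi.1 l hl
    rw [Module.finrank_zero_of_subsingleton, Nat.cast_zero, mul_zero]] at he
  have h' : (Module.finrank k (Coh.HH J.left (CohB1.tensorPow ΘJ (m + 1)) 0) : ℤ) = ((m + 1 : ℕ) : ℤ) ^ g := by
    simpa using he
  exact_mod_cast h'

end Groth.Agent.Riemann22
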