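import Groth.Agent.Lib.Riemann22.Principal
import Groth.Agent.Lib.AVTrace22.Main
import Groth.Agent.Lib.NumPoly18.Nakai

/-!
# Powers of the inverse of the theta module
-/

set_option autoImplicit false
set_option linter.style.haveILetI false
set_option linter.unusedSectionVars false
set_option backward.isDefEq.respectTransparency false
set_option backward.isDefEq.respectTransparency.types false
set_option maxHeartbeats 1000000

universe u

open CategoryTheory CategoryTheory.Limits AlgebraicGeometry TopologicalSpace Opposite MonoidalCategory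
  CartesianMonoidalCategory MonObj

noncomputable section

namespace Groth.Agent.Riemann22

noncomputable local instance instLawThetaPrincipalInv (Y : Scheme.{u}) : PicGrp.Law Y := M2.law Y

variable {k : Type u} [Field k] [IsAlgClosed k] {C : Scheme.{u}} [C.Over (Spec (CommRingCat.of k))]
  [IsProper (C ↘ Spec (CommRingCat.of k))] [Smooth (C ↘ Spec (CommRingCat.of k))]
  [GeometricallyConnected (C ↘ Spec (CommRingCat.of k))]
  (hdim : topologicalKrullDim C = 1) (g : ℕ) (hg : Curv2.genus k C = g) (hg1 : 1 ≤ g)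
  {J : Over (Spec (CommRingCat.of k))} [GrpObj J] [IsCommMonObj J] [IsProper J.hom]
  {ψ : (ModFun.PicDeg (C ↘ Spec (CommRingCat.of k)) 0).Hom ⊤ J}
  (hJ : Jac.IsJacobian (C ↘ Spec (CommRingCat.of k)) ⊤ J ψ)
  (N : C.Modules) (hN : PicF.IsInvertible N) (hNdeg : Curv2.deg k C N 1 = (g : ℤ) - 1)
  (ΘJ : J.left.Modules) (hΘJ : Jac.IsThetaLB (C ↘ Spec (CommRingCat.of k)) 0 ψ N ΘJ)
  (M : J.left.Modules) (hM : PicF.IsInvertible M) (hMΘ : ClSub.IsInverseOf M ΘJ)

include hdim hg hg1 hJ hN hNdeg hΘJ hM hMΘ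

/-- Cohomology of a positive power of the inverse of the theta module. -/
theorem theta_inv_pow (m : ℕ) (hm : 1 ≤ m) :
    letI : J.left.Over (Spec (CommRingCat.of k)) := ⟨J.hom⟩
    Index22.Conc (CohB1.tensorPow M m) g ∧ Curv2.euler k J.left (CohB1.tensorPow M m) = (-1) ^ g * (m : ℤ) ^ g := by
  letI : J.left.Over (Spec (CommRingCat.of k)) := ⟨J.hom⟩
  obtain ⟨hJg, hdimJ, hamp, -, -⟩ := theta_principal hdim g hg hg1 hJ N hN hNdeg ΘJ hΘJ
  haveI := hJg
  obtain ⟨hconc, heu, -⟩ := theta_pow hdim g hg hg1 hJ N hN hNdeg ΘJ hΘJ m hm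
  have hL := M2.isInvertible_tensorPow hamp.1 m
  have hD := M2.isInvertible_tensorPow hM m
  have hc : PicGrp.cls _ hD = (PicGrp.cls _ hL)⁻¹ := by
    have e1 : PicGrp.cls _ hD = PicGrp.cls M hM ^ m := Subtype.ext (by rw [PicGrp.cls_pow_val, PicGrp.cls_val])
    have e2 : PicGrp.cls _ hL = PicGrp.cls ΘJ hamp.1 ^ m := Subtype.ext (by rw [PicGrp.cls_pow_val, PicGrp.cls_val])
    rw [e1, e2, ← inv_pow]
    congr 1
    exact eq_inv_of_mul_eq_one_left ((PicGrp.cls_mul_cls_eq_one_iff hM hamp.1).2 hMΘ)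
  have hnd : Index22.Nd (PicGrp.cls _ hL) := Index22.nd_of_conc hL hconc
  obtain ⟨i, -, hi, hD'⟩ := Index22.exists_index hL hnd hD
    ((PicGrp.cls_mul_cls_eq_one_iff hL hD).1 (by rw [hc, mul_inv_cancel])) hdimJ
  obtain rfl : (0 : ℕ) = i := hi.unique hconc.2
  refine ⟨by simpa using hD', ?_⟩
  rw [RR22.euler_inverse hL hnd hD hc hdimJ, heu]

/-- The self intersection of the theta divisor. -/
theorem theta_intNum :
    letI : J.left.Over (Spec (CommRingCat.of k)) := ⟨J.hom⟩
    FGA.intNum k J.left g (fun _ : Fin g => M) (Coh.structureModule J.left) = (Nat.factorial g : ℤ) := by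
  letI : J.left.Over (Spec (CommRingCat.of k)) := ⟨J.hom⟩
  obtain ⟨hJg, hdimJ, hamp, -, -⟩ := theta_principal hdim g hg hg1 hJ N hN hNdeg ΘJ hΘJ
  haveI := hJg
  haveI : IsProper (J.left ↘ Spec (CommRingCat.of k)) := inferInstanceAs (IsProper J.hom)
  haveI : IsNoetherian J.left := CohFound.isNoetherian_of_isProper (J.left ↘ Spec (CommRingCat.of k))
  obtain ⟨Q, hQd, hQ, -⟩ := NumPoly18.exists_poly_self k hdimJ hM
  have hQe : Q = Polynomial.C ((-1 : ℚ) ^ g) * Polynomial.X ^ g := by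
    refine RR22.poly_ext 1 fun m hm => ?_
    rw [← hQ m, (theta_inv_pow hdim g hg hg1 hJ N hN hNdeg ΘJ hΘJ M hM hMΘ m hm).2, Polynomial.eval_mul,
      Polynomial.eval_C, Polynomial.eval_pow, Polynomial.eval_X]
    push_cast
    rfl
  have h : ((FGA.intNum k J.left g (fun _ : Fin g => M) (Coh.structureModule J.left) : ℤ) : ℚ) =
      (-1) ^ g * g.factorial * Q.coeff g := by
    rw [Snapper.intNum_eq_alt hdimJ.le (fun _ => hM) (M1.isCoh_structureModule _)]
    refine AVTrace22.alt_eq_coeff _ Q hQd fun m => ?_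
    obtain ⟨hl, he⟩ := AVTrace22.cls_multiTwist (fun _ : Fin g => M) (fun _ => hM) m
    rw [Finset.prod_pow_eq_pow_sum] at he
    obtain ⟨i⟩ := (PicGrp.cls_eq_cls_iff hl (M2.isInvertible_tensorPow hM (∑ i, m i))).1
      (he.trans (Subtype.ext (by rw [PicGrp.cls_pow_val, PicGrp.cls_val])))
    rw [← hQ, Snapper.chi, CurveCoh17.euler_iso (M2.tensorLUnit _ ≪≫ i)]
  rw [hQe, Polynomial.coeff_C_mul, Polynomial.coeff_X_pow, if_pos rfl, _root_.mul_one,
    mul_right_comm, ← mul_pow] at h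
  norm_num at h
  exact_mod_cast h

end Groth.Agent.Riemann22
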