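import Groth.Agent.Lib.Riemann22.Theta
import Groth.Agent.Lib.CurveTwist13.PullIdeal
import Groth.Agent.Lib.Index22.Quat
import Groth.Agent.Lib.IsQuot25.Desc
import Groth.Agent.S11992

/-!
# The class of a translate of the reflected theta divisor on the curve
-/

set_option autoImplicit false
set_option linter.style.haveILetI false
set_option linter.unusedSectionVars false
set_option backward.isDefEq.respectTransparency false
set_option backward.isDefEq.respectTransparency.types false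
set_option maxHeartbeats 1000000

universe u

open CategoryTheory CategoryTheory.Limits AlgebraicGeometry TopologicalSpace Opposite MonoidalCategory
  CartesianMonoidalCategory MonObj

noncomputable section

namespace Groth.Agent.Riemann22

open Groth.Agent.Abel10 (pc pc_comp pc_id)
open Groth.Agent.JacPts22
open Groth.Agent.Abel10 Groth.Agent.PicRep20
open Groth.Agent.PicDesc21 (isInvertibleCl_pull)

noncomputable local instance instLawThetaClass (Y : Scheme.{u}) : PicGrp.Law Y := M2.law Y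

variable {k : Type u} [Field k] {C : Scheme.{u}} [C.Over (Spec (CommRingCat.of k))]
  [IsProper (C ↘ Spec (CommRingCat.of k))] [Smooth (C ↘ Spec (CommRingCat.of k))]
  [GeometricallyConnected (C ↘ Spec (CommRingCat.of k))] [IsIntegral C]
  [GeometricallyIrreducible (C ↘ Spec (CommRingCat.of k))]
  (hdim : topologicalKrullDim C = 1)
  {σ : Spec (CommRingCat.of k) ⟶ C} (hσ : σ ≫ (C ↘ Spec (CommRingCat.of k)) = 𝟙 _)
  {J : Over (Spec (CommRingCat.of k))} [GrpObj J] [IsCommMonObj J]
  {ψ : (ModFun.PicDeg (C ↘ Spec (CommRingCat.of k)) 0).Hom ⊤ J}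
  (hJ : Jac.IsJacobian (C ↘ Spec (CommRingCat.of k)) ⊤ J ψ)
  (j : Over.mk (C ↘ Spec (CommRingCat.of k)) ⟶ J)
  (hj : Jac.IsAbelJacobiAt (C ↘ Spec (CommRingCat.of k)) σ ψ j)

include hdim hσ hJ hj

omit hdim hσ hJ hj in
theorem cls_comap {X Y : Scheme.{u}} (f : Y ⟶ X) {I : X.IdealSheafData} (hI : BlowUp.IsEffCartierIdeal I)
    (hJ : BlowUp.IsEffCartierIdeal (I.comap f)) :
    pc f (PicGrp.cls _ (M2.isInvertible_idealMod _ hI)) = PicGrp.cls _ (M2.isInvertible_idealMod _ hJ) := by
  rw [pc, PicGrp.pullHom_cls]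
  exact (PicGrp.cls_eq_cls_iff _ _).2 (CurveTwist13.nonempty_pullback_idealMod_iso f hI hJ)

omit hdim hσ hJ hj in
theorem cls_congr {X : Scheme.{u}} {I I' : X.IdealSheafData} (h : I = I') (hI : BlowUp.IsEffCartierIdeal I)
    (hI' : BlowUp.IsEffCartierIdeal I') :
    PicGrp.cls _ (M2.isInvertible_idealMod _ hI) = PicGrp.cls _ (M2.isInvertible_idealMod _ hI') := by
  subst h; rfl

omit hdim hσ hJ hj in
theorem cls_prod_ideal {X : Scheme.{u}} {n : ℕ} (G : Fin n → X.IdealSheafData) (hG : ∀ i, BlowUp.IsEffCartierIdeal (G i))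
    (s : Finset (Fin n)) (hs : s.Nonempty) : ∃ h : BlowUp.IsEffCartierIdeal (∏ i ∈ s, G i),
      PicGrp.cls _ (M2.isInvertible_idealMod _ h) = ∏ i ∈ s, PicGrp.cls _ (M2.isInvertible_idealMod _ (hG i)) := by
  induction hs using Finset.Nonempty.cons_induction with
  | singleton b =>
    have e : (∏ i ∈ {b}, G i) = G b := Finset.prod_singleton G b
    have hb : BlowUp.IsEffCartierIdeal (∏ i ∈ {b}, G i) := by rw [e]; exact hG b
    exact ⟨hb, (cls_congr e hb (hG b)).trans
      (Finset.prod_singleton (fun i => PicGrp.cls _ (M2.isInvertible_idealMod _ (hG i))) b).symm⟩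
  | cons b t hbt _ ih =>
    obtain ⟨h, he⟩ := ih
    have e : (∏ i ∈ Finset.cons b t hbt, G i) = G b * ∏ i ∈ t, G i := Finset.prod_cons hbt
    have hm := EffCartier.isEffCartierIdeal_mul (hG b) h
    have hb' : BlowUp.IsEffCartierIdeal (∏ i ∈ Finset.cons b t hbt, G i) := by rw [e]; exact hm
    refine ⟨hb', (cls_congr e hb' hm).trans ?_⟩
    rw [Finset.prod_cons, ← he, AlgEquiv22.cls_tensor]
    exact (PicGrp.cls_eq_cls_iff _ _).2 ⟨(CurveCoh17.nonempty_idealMod_mul (hG b) h).some.symm⟩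

variable [IsAlgClosed k]

/-- The class of a translate of the reflected theta divisor on the curve. -/
theorem pullback_theta_class {n : ℕ} (hn : Curv2.genus k C = n + 1)
    (hcl : IsClosed (Set.range (sumMap j n).left.base))
    (hE : BlowUp.IsEffCartierIdeal (Scheme.IdealSheafData.vanishingIdeal ⟨_, hcl⟩))
    (a : 𝟙_ (Over (Spec (CommRingCat.of k))) ⟶ J) :
    pc (hMap j a).left (PicGrp.cls _ (M2.isInvertible_idealMod _ hE)) = (cN hdim σ hσ ψ hJ (n + 1) a)⁻¹ := by
  obtain ⟨hJp, hJs, hJg⟩ := jacobian_props hdim σ hσ hJ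
  haveI := hJp
  haveI := hJs
  haveI := hJg
  haveI : IsIntegral J.left := GeometricallyIntegral.isIntegral_of_subsingleton J.hom
  set c₀ := PicGrp.cls _ (M2.isInvertible_idealMod _ hE) with hc₀
  let X₁ : Over (Spec (CommRingCat.of k)) := Over.mk (C ↘ Spec (CommRingCat.of k))
  let G : (𝟙_ (Over (Spec (CommRingCat.of k))) ⟶ J) → PicLoc.PicSet C := fun b =>
    pc (Y' := C) (hMap j b).left c₀ * cN hdim σ hσ ψ hJ (n + 1) b
  -- the class is multiplicative up to a constant
  let K : (𝟙_ (Over (Spec (CommRingCat.of k))) ⟶ J) →* PicLoc.PicSet C :=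
    MonoidHom.mk' (fun b => (show PicLoc.PicSet C from Index22.bil c₀ (j⁻¹) (toUnit X₁ ≫ b)) * iota hdim J ψ hJ b)
      fun b b' => by
        show Index22.bil c₀ (j⁻¹) (toUnit X₁ ≫ (b * b')) * _ = _
        rw [MonObj.comp_mul, Index22.bil_comm, Index22.bil_mul_left, Index22.bil_comm c₀ _ (j⁻¹),
          Index22.bil_comm c₀ _ (j⁻¹), map_mul]
        exact _root_.mul_mul_mul_comm _ _ _ _
  let G₀ : PicLoc.PicSet C := pc (Y' := C) (j⁻¹ : X₁ ⟶ J).left c₀ * (Torelli22.P hdim ⟨σ, hσ⟩ ^ (n + 1))⁻¹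
  have hG : ∀ b, G b = G₀ * K b := fun b => by
    have e : pc (Y' := C) (hMap j b).left c₀ = pc (Y' := C) (j⁻¹ : X₁ ⟶ J).left c₀ * (show PicLoc.PicSet C from Index22.bil c₀ (j⁻¹) (toUnit X₁ ≫ b)) := by
      show AlgEquiv22.pb (hMap j b) c₀ = _
      rw [hMap, Index22.pb_mul, AlgEquiv22.pb_const, _root_.mul_one]
      rfl
    show pc (Y' := C) (hMap j b).left c₀ * cN hdim σ hσ ψ hJ (n + 1) b = _
    rw [e, cN]
    show _ = pc (Y' := C) (j⁻¹ : X₁ ⟶ J).left c₀ * (Torelli22.P hdim ⟨σ, hσ⟩ ^ (n + 1))⁻¹ * (_ * iota hdim J ψ hJ b)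
    ac_rfl
  -- it is trivial on an open set
  obtain ⟨U, hUne, hU⟩ := exists_open_fibre hdim hσ hJ j hj hn hcl
  have hG1 : ∀ b, CurvePts22.pt b.left ∈ U → G b = 1 := fun b hb => by
    obtain ⟨y, hy, he⟩ := hU b hb
    haveI := fun i => CurvePts22.isClosedImmersion_of_section (C := C) (y ≫ prj i).left (Over.w (y ≫ prj i))
    have hpt : ∀ i, BlowUp.IsEffCartierIdeal (y ≫ prj i).left.ker := fun i =>
      Abel10.isEffCartierIdeal_point hdim (y ≫ prj i).left (Over.w (y ≫ prj i))
    obtain ⟨h, hc⟩ := cls_prod_ideal _ hpt Finset.univ Finset.univ_nonempty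
    show pc (Y' := C) (hMap j b).left c₀ * cN hdim σ hσ ψ hJ (n + 1) b = 1
    have hh : BlowUp.IsEffCartierIdeal ((Scheme.IdealSheafData.vanishingIdeal ⟨_, hcl⟩).comap (hMap j b).left) := by
      rw [he]; exact h
    rw [hc₀]
    erw [cls_comap (hMap j b).left hE hh]
    rw [cls_congr he hh h, hc, ← hy, cN_sum hdim σ hσ ψ hJ j hj y]
    exact mul_inv_cancel _
  have hK : ∀ b, K b = 1 := fun b => by
    haveI : LocallyOfFiniteType J.hom := inferInstance
    haveI : IsIso (Jac.transl J b).left := by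
      haveI : IsIso (Jac.transl J b) := ⟨Jac.transl J b⁻¹,
        by rw [comp_transl, Jac.transl, _root_.mul_assoc, ← MonObj.comp_mul, mul_inv_cancel, MonObj.comp_one, _root_.mul_one],
        by rw [comp_transl, Jac.transl, _root_.mul_assoc, ← MonObj.comp_mul, inv_mul_cancel, MonObj.comp_one, _root_.mul_one]⟩
      exact (inferInstance : IsIso ((Over.forget _).map (Jac.transl J b)))
    have hne : ((U : Set J.left) ∩ (Jac.transl J b).left.base ⁻¹' U).Nonempty := by
      refine nonempty_preirreducible_inter U.isOpen (U.isOpen.preimage (Jac.transl J b).left.continuous) hUne ?_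
      obtain ⟨p, hp⟩ := hUne
      exact ⟨(inv (Jac.transl J b).left).base p, by
        show ((inv (Jac.transl J b).left) ≫ (Jac.transl J b).left) p ∈ U
        rw [IsIso.inv_hom_id]; exact hp⟩
    obtain ⟨u₁, hu1, hu2⟩ := exists_point_mem (P := J)
      (U.isOpen.inter (U.isOpen.preimage (Jac.transl J b).left.continuous)).isLocallyClosed hne
    have h1 := hG1 u₁ hu1
    have h2 := hG1 (u₁ * b) (by rw [← point_comp_transl]; exact hu2)
    rw [hG] at h1 h2
    rw [map_mul, ← _root_.mul_assoc, h1, _root_.one_mul] at h2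
    exact h2
  obtain ⟨b₀, hb₀⟩ := exists_point_mem (P := J) U.isOpen.isLocallyClosed hUne
  have h0 : G₀ = 1 := by
    have := hG1 b₀ hb₀
    rwa [hG, hK, _root_.mul_one] at this
  have hGa := hG a
  rw [hK, h0, _root_.mul_one] at hGa
  exact eq_inv_of_mul_eq_one_left (hGa : pc (Y' := C) (hMap j a).left c₀ * cN hdim σ hσ ψ hJ (n + 1) a = 1)

end Groth.Agent.Riemann22
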