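import Groth.Agent.Lib.JacPts22.Albanese
import Groth.Agent.Lib.IsQuot25.Desc
import Groth.Agent.S11992

/-!
# Fibres of the sum map over classes without first cohomology
-/

set_option autoImplicit false
set_option linter.style.haveILetI false
set_option linter.unusedSectionVars false
set_option backward.isDefEq.respectTransparency false
set_option backward.isDefEq.respectTransparency.types false
set_option maxHeartbeats 1000000

universe u

open CategoryTheory CategoryTheory.Limits AlgebraicGeometry TopologicalSpace Opposite MonoidalCategory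
  CartesianMonoidalCategory MonObj

noncomputable section

namespace Groth.Agent.Riemann22

open Groth.Agent.Abel10 (pc pc_comp pc_id)
open Groth.Agent.JacPts22
open Groth.Agent.Abel10 Groth.Agent.PicRep20
open Groth.Agent.PicDesc21 (isInvertibleCl_pull)

noncomputable local instance instLawAlbanese (Y : Scheme.{u}) : PicGrp.Law Y := M2.law Y

variable {k : Type u} [Field k] {C : Scheme.{u}} [C.Over (Spec (CommRingCat.of k))]
  [IsProper (C ↘ Spec (CommRingCat.of k))] [Smooth (C ↘ Spec (CommRingCat.of k))]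
  [GeometricallyConnected (C ↘ Spec (CommRingCat.of k))] [IsIntegral C]
  [GeometricallyIrreducible (C ↘ Spec (CommRingCat.of k))]
  (hdim : topologicalKrullDim C = 1)
  {σ : Spec (CommRingCat.of k) ⟶ C} (hσ : σ ≫ (C ↘ Spec (CommRingCat.of k)) = 𝟙 _)
  {J : Over (Spec (CommRingCat.of k))} [GrpObj J] [IsCommMonObj J]
  {ψ : (ModFun.PicDeg (C ↘ Spec (CommRingCat.of k)) 0).Hom ⊤ J}
  (hJ : Jac.IsJacobian (C ↘ Spec (CommRingCat.of k)) ⊤ J ψ)
  (j : Over.mk (C ↘ Spec (CommRingCat.of k)) ⟶ J)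
  (hj : Jac.IsAbelJacobiAt (C ↘ Spec (CommRingCat.of k)) σ ψ j)

include hdim hσ hJ hj

theorem exists_good_open : ∃ O : J.left.Opens, (O : Set J.left).Nonempty ∧
    ∀ (y : 𝟙_ (Over (Spec (CommRingCat.of k))) ⟶ pw k C (Curv2.genus k C)),
      (∀ p, (y ≫ sumMap j (Curv2.genus k C)).left.base p ∈ O) →
      ∀ (T : Over (Spec (CommRingCat.of k))) (x : T ⟶ pw k C (Curv2.genus k C)),
        x ≫ sumMap j (Curv2.genus k C) = toUnit T ≫ y ≫ sumMap j (Curv2.genus k C) →
        ∀ i, (∏ i', (y ≫ prj i').left.ker).comap (x ≫ prj i).left = ⊥ := by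
  obtain ⟨-, -, -, ξ, hξ, hψ⟩ := exists_fine _ hdim σ hσ J ψ hJ.coarse.2.1
  obtain ⟨hJp, hJs, hJg⟩ := jacobian_props hdim σ hσ hJ
  haveI := hJp
  haveI := hJs
  haveI := hJg
  obtain ⟨hP, LA, hLA, hAJ, hLj⟩ := id hj
  have hgood := exists_good_point hdim σ hσ hAJ
  set g := Curv2.genus k C with hgdef
  haveI := geometricallyIntegral_pw (k := k) (C := C) g
  haveI : IsIntegral (pw k C g).left := GeometricallyIntegral.isIntegral_of_subsingleton (pw k C g).hom
  haveI := CurveCartier25.smoothOfRelativeDimension_one (C ↘ Spec (CommRingCat.of k)) hdim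
  have hcurve : Curve.IsSmoothProperCurve k C (C ↘ Spec (CommRingCat.of k)) := ⟨‹_›, ‹_›, ‹_›, hdim⟩
  -- the Hilbert scheme and the tautological map
  obtain ⟨H, Z, hZ, hHp, -⟩ := S1170.result k C (C ↘ Spec (CommRingCat.of k)) hcurve g
  obtain ⟨Φ, hΦ, -⟩ := hZ _ (SymCurve14.powObj (C ↘ Spec (CommRingCat.of k)) g)
  -- the inverse of the universal ideal
  haveI := PicRep20.smoothOfRelativeDimension_proj (C ↘ Spec (CommRingCat.of k)) hdim H
  have hE : BlowUp.IsEffCartierIdeal Z.1 :=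
    ((S1184.result (PicF.XTproj (C ↘ Spec (CommRingCat.of k)) H) Z.1).2 Z.2.1).1
  obtain ⟨L, hL, ⟨eL⟩⟩ := M2.exists_inverse (M2.isInvertible_idealMod _ hE)
  obtain ⟨s, hs⟩ := exists_locEq hE hL (M2.tensorComm _ _ ≪≫ eL)
  -- the classes
  let Λ : PicLoc.PicSet (PicF.XT (C ↘ Spec (CommRingCat.of k)) J) :=
    ξ * (pc (pullback.fst (C ↘ Spec (CommRingCat.of k)) J.hom) (Abel10.ptCls hdim σ hσ) ^ g)⁻¹
  let a : Fin g → PicLoc.PicSet (PicF.XT (C ↘ Spec (CommRingCat.of k)) (pw k C g)) := fun i =>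
    pc (PicF.XTmap (C ↘ Spec (CommRingCat.of k)) (prj (k := k) (C := C) i)) (PicRep20.famCls _ 0 hLA)
  have hda : ∀ i t, PicTan20.degCl (C ↘ Spec (CommRingCat.of k)) (pw k C g) t (a i).1 = 0 := fun i t =>
    (PicTan20.degCl_pull _ (prj (k := k) (C := C) i) t (PicRep20.famCls _ 0 hLA).2).trans (degCl_famCls _ hdim 0 hLA _)
  have hdp : ∀ t, PicTan20.degCl (C ↘ Spec (CommRingCat.of k)) (pw k C g) t (∏ i, a i).1 = 0 := fun t =>
    Finset.prod_induction a (fun c => PicTan20.degCl (C ↘ Spec (CommRingCat.of k)) (pw k C g) t c.1 = 0)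
      (fun c c' h h' => by
        show PicTan20.degCl _ _ t (c * c').1 = 0
        rw [PicTan20.degCl_mul _ (fiber_dim _ hdim), h, h']; rfl)
      (deg_one₀ hdim t) (fun i _ => hda i t)
  obtain ⟨m, hm⟩ := classify_spec hξ (∏ i, a i) hdp
  have hsum : classify hξ (∏ i, a i) hdp = sumMap j g := by
    rw [classify_prod hdim hξ hψ hJ a hda, sumMap, List.prod_ofFn]
    refine Finset.prod_congr rfl fun i _ => ?_
    exact comp_abel hdim hξ hψ hLA hLj (prj i) _
  rw [hsum] at hm
  have hℓ : pc (PicF.XTmap (C ↘ Spec (CommRingCat.of k)) Φ) (PicGrp.cls L hL) =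
      pc (PicF.XTmap (C ↘ Spec (CommRingCat.of k)) (sumMap j g)) Λ *
        pc (PicF.XTproj (C ↘ Spec (CommRingCat.of k)) (pw k C g)) m := by
    rw [pc_classify_pow hdim σ hσ hAJ Z hL hs Φ hΦ]
    simp only [Λ, map_mul, map_inv, map_pow,
      pc_comp _ _ (HilbBC25.XTmap_fst (C ↘ Spec (CommRingCat.of k)) (sumMap j g))]
    rw [mul_right_comm]
    refine congrArg (· * _) ?_
    exact hm
  -- the open set of the Jacobian where the class has no first cohomology
  let O : J.left.Opens :=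
    ⟨_, isOpen_good (C ↘ Spec (CommRingCat.of k)) (fun t => (fiber_dim _ hdim t).le) J Λ.2 g⟩
  have hO : ∃ q : J.left, q ∈ O := by
    obtain ⟨p, hp1, hp2⟩ := hgood
    refine ⟨(sumMap j g).left p, ?_⟩
    rw [← pc_classify_pow hdim σ hσ hAJ Z hL hs Φ hΦ, hℓ] at hp1 hp2
    have ht := fibre_twist (C ↘ Spec (CommRingCat.of k)) p
      (pc (PicF.XTmap (C ↘ Spec (CommRingCat.of k)) (sumMap j g)) Λ).2 m.2
    show _ ∧ _
    rw [← PicTan20.degCl_pull (C ↘ Spec (CommRingCat.of k)) (sumMap j g) p Λ.2,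
      ← h1Cl_pull (C ↘ Spec (CommRingCat.of k)) (sumMap j g) p Λ.2]
    exact ⟨ht.1.symm.trans hp1, ht.2.symm.trans hp2⟩
  obtain ⟨q₀, hq₀⟩ := hO
  refine ⟨O, ⟨q₀, hq₀⟩, fun y hy T x hx i => ?_⟩
  let f := C ↘ Spec (CommRingCat.of k)
  let U₀ : Over (Spec (CommRingCat.of k)) := 𝟙_ (Over (Spec (CommRingCat.of k)))
  let a₀ : U₀ ⟶ J := y ≫ sumMap j g
  have hg₀ : PicRep20.Good f U₀ g (PicF.pullCl (PicF.XTmap f a₀) Λ.1) := fun t => by
    rw [PicTan20.degCl_pull _ a₀ t Λ.2, h1Cl_pull _ a₀ t Λ.2]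
    exact hy t
  let x' : T ⟶ pw k C g := toUnit T ≫ y
  have hm' : pc x'.left m = 1 := AlgEquiv22.pb_const y m
  have hclass : ∀ (W : Over (Spec (CommRingCat.of k))) (v : W ⟶ pw k C g),
      pc (PicF.XTmap f (v ≫ Φ)) (PicGrp.cls L hL) =
        pc (PicF.XTmap f (v ≫ sumMap j g)) Λ * pc (PicF.XTproj f W) (pc v.left m) := fun W v => by
    rw [← pc_comp _ _ (HilbBC25.XTmap_comp f v Φ).symm, hℓ, map_mul, pc_proj_map,
      pc_comp _ _ (HilbBC25.XTmap_comp f v (sumMap j g)).symm]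
  have hxy : x ≫ Φ = x' ≫ Φ := by
    choose U htU hU using fun t : T.left => exists_open_trivial (pc x.left m).2 t
    refine Over.OverMorphism.ext (Scheme.Cover.hom_ext (T.left.openCoverOfIsOpenCover U
      (TopologicalSpace.IsOpenCover.mk (top_unique fun t _ => Opens.mem_iSup.2 ⟨t, htU t⟩))) _ _ fun t => ?_)
    let w : AbDual.ovr T (U t).ι ⟶ T := AbDual.ovrHom T (U t).ι
    have hw1 : pc w.left (pc x.left m) = 1 := Subtype.ext ((hU t).trans rfl)
    have hw' : pc w.left (pc x'.left m) = 1 := by rw [hm', map_one]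
    have ha : pc (PicF.XTmap f (w ≫ x' ≫ Φ)) (PicGrp.cls L hL) =
        pc (PicF.XTmap f (toUnit _ ≫ a₀)) Λ := by
      rw [← Category.assoc w, hclass, Category.assoc w, show (x' ≫ sumMap j g) = toUnit T ≫ a₀ from Category.assoc _ _ _,
        ← Category.assoc w, toUnit_unique (w ≫ toUnit T) (toUnit _)]
      erw [show pc (w ≫ x').left m = 1 from (pc_comp _ _ rfl m).symm.trans hw']
      rw [map_one, _root_.mul_one]
    have hb : pc (PicF.XTmap f (w ≫ x ≫ Φ)) (PicGrp.cls L hL) =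
        pc (PicF.XTmap f (toUnit _ ≫ a₀)) Λ := by
      rw [← Category.assoc w, hclass, Category.assoc w, hx, ← Category.assoc w, toUnit_unique (w ≫ toUnit T) (toUnit _)]
      erw [show pc (w ≫ x).left m = 1 from (pc_comp _ _ rfl m).symm.trans hw1]
      rw [map_one, _root_.mul_one]
    have hgW : PicRep20.Good f (AbDual.ovr T (U t).ι) g
        (PicF.pullCl (PicF.XTmap f (w ≫ x' ≫ Φ)) (PicF.cl L)) := by
      rw [show PicF.pullCl (PicF.XTmap f (w ≫ x' ≫ Φ)) (PicF.cl L) = _ from congrArg Subtype.val ha]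
      show PicRep20.Good f _ g (PicF.pullCl (PicF.XTmap f (toUnit _ ≫ a₀)) Λ.1)
      rw [← RigDesc22.pullCl_XTmap]
      exact PicRep20.Good.pull _ _ (isInvertibleCl_pull _ Λ.2) hg₀
    have := eq_of_pull_eq f hdim hgdef.symm Z hL hs hZ (congrArg Subtype.val (hb.trans ha.symm)) hgW
    exact congrArg CommaMorphism.left this
  have hpull : HilbD.pull f x (SymCurve14.powIdeal f g) = HilbD.pull f x' (SymCurve14.powIdeal f g) := by
    rw [show SymCurve14.powIdeal f g = HilbD.pull f Φ Z.1 from hΦ.symm]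
    simp only [HilbBC25.pull_eq_comap, ← Scheme.IdealSheafData.comap_comp, ← HilbBC25.XTmap_comp]
    rw [hxy]
  let gr : Fin g → (T.left ⟶ PicF.XT f T) := fun i =>
    pullback.lift (x ≫ prj i).left (𝟙 T.left) (by rw [Category.id_comp]; exact Over.w (x ≫ prj i))
  have h1 : (HilbD.pull f x (SymCurve14.powIdeal f g)).comap (gr i) = ⊥ := by
    rw [SymCurve14.pull_powIdeal, CurveCartier25.comap_prod, ← Finset.mul_prod_erase _ _ (Finset.mem_univ i)]
    refine le_bot_iff.1 ((CurveCartier25.mul_le_left _ _).trans ?_)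
    show Scheme.IdealSheafData.comap (Scheme.Hom.ker (gr i)) (gr i) ≤ ⊥
    rw [← Scheme.IdealSheafData.le_map_iff_comap_le, Scheme.IdealSheafData.map_bot]
  have h0 : ∀ i' : Fin g, HilbD.secGraph f U₀ (y.left ≫ WidePullback.π (fun _ : Fin g => f) i') (by
      rw [Category.assoc, SymCurve14.pow_π_comp]; exact Over.w y) =
      (y ≫ prj i').left.ker.comap (pullback.fst f U₀.hom) := fun i' => by
    haveI : IsClosedImmersion (y ≫ prj i').left :=
      CurvePts22.isClosedImmersion_of_section (C := C) (y ≫ prj i').left (Over.w (y ≫ prj i'))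
    haveI : IsIso U₀.hom := inferInstanceAs (IsIso (𝟙 (Spec (CommRingCat.of k))))
    haveI : IsIso (pullback.fst f U₀.hom) := inferInstance
    refine FormalH7.ker_of_isPullback (g := 𝟙 U₀.left) (IsPullback.of_vert_isIso ⟨?_⟩)
    exact (pullback.lift_fst _ _ _).trans (Category.id_comp _).symm
  have h2 : HilbD.pull f x' (SymCurve14.powIdeal f g) =
      (∏ i', (y ≫ prj i').left.ker).comap (PicF.XTmap f (toUnit T) ≫ pullback.fst f U₀.hom) := by
    rw [HilbBC25.pull_eq_comap, show PicF.XTmap f x' = PicF.XTmap f (toUnit T) ≫ PicF.XTmap f y from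
      HilbBC25.XTmap_comp f (toUnit T) y, Scheme.IdealSheafData.comap_comp, ← HilbBC25.pull_eq_comap f y,
      SymCurve14.pull_powIdeal, Finset.prod_congr rfl fun i' _ => h0 i', ← CurveCartier25.comap_prod,
      Scheme.IdealSheafData.comap_comp]
  rw [hpull, h2, ← Scheme.IdealSheafData.comap_comp] at h1
  rw [HilbBC25.XTmap_fst] at h1
  exact (congrArg (Scheme.IdealSheafData.comap _) (pullback.lift_fst _ _ _).symm).trans h1

end Groth.Agent.Riemann22
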