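import Groth.Agent.Lib.Riemann22.Class
import Groth.Agent.Lib.Riemann22.Cartier
import Groth.Agent.Lib.StableBlowUp3.Finite
import Groth.Agent.Lib.JacPts22.AbelImm
import Groth.Agent.Lib.IsQuot25.Desc
import Groth.Agent.S11992

/-!
# The intersection of the curve with a translate of the reflected theta divisor not containing it
-/

set_option autoImplicit false
set_option linter.style.haveILetI false
set_option linter.unusedSectionVars false
set_option backward.isDefEq.respectTransparency false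
set_option backward.isDefEq.respectTransparency.types false
set_option maxHeartbeats 1000000

universe u

open CategoryTheory CategoryTheory.Limits AlgebraicGeometry TopologicalSpace Opposite MonoidalCategory
  CartesianMonoidalCategory MonObj

noncomputable section

namespace Groth.Agent.Riemann22

open Groth.Agent.Abel10 (pc pc_comp pc_id)
open Groth.Agent.JacPts22
open Groth.Agent.Abel10 Groth.Agent.PicRep20
open Groth.Agent.PicDesc21 (isInvertibleCl_pull)

noncomputable local instance instLawThetaInter (Y : Scheme.{u}) : PicGrp.Law Y := M2.law Y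

variable {k : Type u} [Field k] {C : Scheme.{u}} [C.Over (Spec (CommRingCat.of k))]
  [IsProper (C ↘ Spec (CommRingCat.of k))] [Smooth (C ↘ Spec (CommRingCat.of k))]
  [GeometricallyConnected (C ↘ Spec (CommRingCat.of k))] [IsIntegral C]
  [GeometricallyIrreducible (C ↘ Spec (CommRingCat.of k))]
  (hdim : topologicalKrullDim C = 1)
  {σ : Spec (CommRingCat.of k) ⟶ C} (hσ : σ ≫ (C ↘ Spec (CommRingCat.of k)) = 𝟙 _)
  {J : Over (Spec (CommRingCat.of k))} [GrpObj J] [IsCommMonObj J]
  {ψ : (ModFun.PicDeg (C ↘ Spec (CommRingCat.of k)) 0).Hom ⊤ J}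
  (hJ : Jac.IsJacobian (C ↘ Spec (CommRingCat.of k)) ⊤ J ψ)
  (j : Over.mk (C ↘ Spec (CommRingCat.of k)) ⟶ J)
  (hj : Jac.IsAbelJacobiAt (C ↘ Spec (CommRingCat.of k)) σ ψ j)

include hdim hσ hJ hj

omit hσ hJ hj in
/-- An effective divisor is determined by its class when that has a single section. -/
theorem unique_divisor {L : C.Modules} (hL : PicF.IsInvertible L) (h0 : Module.finrank k (Coh.HH C L 0) = 1)
    {I I' : C.IdealSheafData} (hI : BlowUp.IsEffCartierIdeal I) (hI' : BlowUp.IsEffCartierIdeal I')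
    (e : CohB1.tensorMod L (ClSub.idealMod I) ≅ Coh.structureModule C)
    (e' : CohB1.tensorMod L (ClSub.idealMod I') ≅ Coh.structureModule C) : I = I' := by
  suffices key : ∀ {I I' : C.IdealSheafData}, BlowUp.IsEffCartierIdeal I' →
      (CohB1.tensorMod L (ClSub.idealMod I') ≅ Coh.structureModule C) → BlowUp.IsEffCartierIdeal I →
      (CohB1.tensorMod L (ClSub.idealMod I) ≅ Coh.structureModule C) → I ≤ I' from
    le_antisymm (key hI' e' hI e) (key hI e hI' e')
  intro I I' hI' e' hI e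
  obtain ⟨s, hs⟩ := exists_locEq hI hL e
  obtain ⟨s', hs'⟩ := exists_locEq hI' hL e'
  have hne := PicRep20.ne_zero_of_locEq hL hs' hI'
  let z := (CurveCoh17.hh0 L).symm s'
  have hz : z ≠ 0 := fun h => hne (by
    rw [← (CurveCoh17.hh0 L).apply_symm_apply s']
    exact (congrArg _ h).trans (map_zero _))
  obtain ⟨c, hc⟩ := (finrank_eq_one_iff_of_nonzero' z hz).1 h0 ((CurveCoh17.hh0 L).symm s)
  obtain ⟨r, hr⟩ : ∃ r : Γ(C, ⊤), s = r • s' := by
    refine ⟨(C ↘ Spec (CommRingCat.of k)).appTop ((Scheme.ΓSpecIso (CommRingCat.of k)).inv c), ?_⟩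
    have h1 := congrArg (CurveCoh17.hh0 L) hc
    rw [AddEquiv.apply_symm_apply] at h1
    refine h1.symm.trans ((CurveCoh17.hh0_smul _ _).trans ?_)
    rw [AddEquiv.apply_symm_apply]
    rfl
  let v := I'.subschemeι
  have h2 : ModLimH13.res' v L (W := ⊤) (W' := ⊤) le_top s = 0 := by
    rw [hr, ModLimH13.res'_smul, res'_eq_zero_of_le_ker hs' v (le_of_eq I'.ker_subschemeι.symm), smul_zero]
  exact (le_ker_of_res'_eq_zero hs v h2).trans (le_of_eq I'.ker_subschemeι)

variable [IsAlgClosed k]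

/-- The translate meets the curve in the unique divisor of its class. -/
theorem comap_theta_eq_prod {n : ℕ} (hn : Curv2.genus k C = n + 1)
    (hcl : IsClosed (Set.range (sumMap j n).left.base))
    (b : 𝟙_ (Over (Spec (CommRingCat.of k))) ⟶ J)
    (hb : ∃ c : 𝟙_ (Over (Spec (CommRingCat.of k))) ⟶ Over.mk (C ↘ Spec (CommRingCat.of k)),
      CurvePts22.pt (c ≫ hMap j b).left ∉ Set.range (sumMap j n).left.base)
    (y : 𝟙_ (Over (Spec (CommRingCat.of k))) ⟶ pw k C (n + 1)) (hy : y ≫ sumMap j (n + 1) = b) :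
    (Scheme.IdealSheafData.vanishingIdeal ⟨_, hcl⟩).comap (hMap j b).left = ∏ i, (y ≫ prj i).left.ker := by
  obtain ⟨c, hc⟩ := hb
  obtain ⟨hJp, -, hJg⟩ := jacobian_props hdim σ hσ hJ
  haveI := hJp
  haveI := hJg
  let vI := Scheme.IdealSheafData.vanishingIdeal ⟨_, hcl⟩
  have hE : BlowUp.IsEffCartierIdeal vI := isEffCartierIdeal_theta hdim hσ hJ j hj hn hcl
  -- the comap is effective Cartier
  haveI : IsClosedImmersion j.left := isClosedImmersion_abel hdim σ hσ hJ j hj (by omega)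
  haveI : IsAffineHom (hMap j b).left := by
    let t : J ⟶ J := (𝟙 J)⁻¹ * (toUnit J ≫ b)
    have htt : t ≫ t = 𝟙 J := by
      show t ≫ ((𝟙 J)⁻¹ * (toUnit J ≫ b)) = _
      rw [MonObj.comp_mul, GrpObj.comp_inv, Category.comp_id, ← Category.assoc t, toUnit_unique (t ≫ toUnit J) (toUnit J),
        mul_inv, inv_inv, inv_mul_cancel_right]
    haveI : IsIso t.left := ⟨t.left, by rw [← Over.comp_left, htt]; rfl, by rw [← Over.comp_left, htt]; rfl⟩
    have e : hMap j b = j ≫ t := by
      rw [hMap, MonObj.comp_mul, GrpObj.comp_inv, Category.comp_id, ← Category.assoc j,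
        toUnit_unique (j ≫ toUnit J) (toUnit _)]
    rw [e, Over.comp_left]
    infer_instance
  haveI : Nonempty (↥(Over.mk (C ↘ Spec (CommRingCat.of k))).left) := inferInstanceAs (Nonempty C)
  haveI : IrreducibleSpace (↥(Over.mk (C ↘ Spec (CommRingCat.of k))).left) := inferInstanceAs (IrreducibleSpace C)
  haveI : IsReduced (Over.mk (C ↘ Spec (CommRingCat.of k))).left := inferInstanceAs (IsReduced C)
  have hX : BlowUp.IsEffCartierIdeal (vI.comap (hMap j b).left) := by
    refine StableBlowUp3.isEffCartierIdeal_comap_of_dense (hMap j b).left hE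
      (IsOpen.dense ((hMap j b).left ⁻¹ᵁ EffCartier.cmpl vI).2 ⟨CurvePts22.pt c.left, ?_⟩)
    show (hMap j b).left.base (CurvePts22.pt c.left) ∉ (vI.support : Set J.left)
    rw [Scheme.IdealSheafData.coe_support_vanishingIdeal]
    exact hc
  haveI := fun i => CurvePts22.isClosedImmersion_of_section (C := C) (y ≫ prj i).left (Over.w (y ≫ prj i))
  have hpt : ∀ i, BlowUp.IsEffCartierIdeal (y ≫ prj i).left.ker := fun i =>
    Abel10.isEffCartierIdeal_point hdim (y ≫ prj i).left (Over.w (y ≫ prj i))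
  obtain ⟨hP, hPc⟩ := cls_prod_ideal _ hpt Finset.univ Finset.univ_nonempty
  have hsum := cN_sum hdim σ hσ ψ hJ j hj y
  rw [hy] at hsum
  have hXc := pullback_theta_class hdim hσ hJ j hj hn hcl hE b
  erw [cls_comap (hMap j b).left hE hX] at hXc
  -- one section
  have hPb : PicGrp.cls _ (M2.isInvertible_idealMod _ hP) = (cN hdim σ hσ ψ hJ (n + 1) b)⁻¹ := by
    rw [hsum, inv_inv, hPc]; rfl
  let x : Torelli22.Pts k C := ⟨c.left, Over.w c⟩
  have hz : (c ≫ hMap j b) * (c ≫ j) = b := by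
    rw [hMap, MonObj.comp_mul, GrpObj.comp_inv, ← Category.assoc c, toUnit_unique (c ≫ toUnit _) (𝟙 _),
      Category.id_comp, inv_mul_cancel_comm]
  have h1 : cN hdim σ hσ ψ hJ 1 (c ≫ j) = (Torelli22.P hdim x)⁻¹ := by
    rw [cN, iota_abel hdim J ψ hJ σ hσ j hj c, pow_one]
    exact mul_inv_eq_of_eq_mul (mul_comm _ _)
  have h2 : cN hdim σ hσ ψ hJ n (c ≫ hMap j b) = cN hdim σ hσ ψ hJ (n + 1) b * Torelli22.P hdim x := by
    have h := cN_mul hdim σ hσ (show n + 1 = n + 1 from rfl) (c ≫ hMap j b) (c ≫ j) (ψ := ψ) (hJ := hJ)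
    rw [hz, h1] at h
    exact eq_mul_of_mul_inv_eq h.symm
  have h3 : h0C k (cN hdim σ hσ ψ hJ n (c ≫ hMap j b)) = 0 := by
    by_contra hne
    exact hc ((pt_mem_sum hdim σ hσ ψ hJ j hj _).2
      (eff_of_h0_pos hdim _ _ (degC_cN hdim σ hσ ψ hJ _ _) (Nat.pos_of_ne_zero hne)))
  have h4 := h0C_le_mul_P hdim (cN hdim σ hσ ψ hJ (n + 1) b) x
  rw [← h2, h3] at h4
  have h5 : 0 < h0C k (cN hdim σ hσ ψ hJ (n + 1) b) :=
    Eff.h0_pos hdim (hy ▸ eff_sum hdim σ hσ ψ hJ j hj y) x
  set d := cN hdim σ hσ ψ hJ (n + 1) b with hd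
  have hiso : ∀ {I : C.IdealSheafData} (hI : BlowUp.IsEffCartierIdeal I),
      PicGrp.cls _ (M2.isInvertible_idealMod _ hI) = d⁻¹ →
      Nonempty (CohB1.tensorMod (rep d) (ClSub.idealMod I) ≅ Coh.structureModule C) := fun {I} hI h =>
    (PicGrp.cls_mul_cls_eq_one_iff (rep_inv d) (M2.isInvertible_idealMod _ hI)).1 (by rw [cls_rep, h, mul_inv_cancel])
  refine unique_divisor hdim (rep_inv d) (show h0C k d = 1 by omega) hX hP (hiso hX ?_).some (hiso hP ?_).some
  · exact hXc
  · exact hPb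

end Groth.Agent.Riemann22
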