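import Groth.Agent.Lib.Riemann22.Inter
import Groth.Agent.Lib.Riemann22.Ideals
import Groth.Agent.Lib.EffCartier.Mul

/-!
# Products of ideals of points determine the points
-/

set_option autoImplicit false
set_option linter.style.haveILetI false
set_option linter.unusedSectionVars false
set_option backward.isDefEq.respectTransparency false
set_option backward.isDefEq.respectTransparency.types false
set_option maxHeartbeats 1000000

universe u

open CategoryTheory CategoryTheory.Limits AlgebraicGeometry TopologicalSpace Opposite MonoidalCategory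
  CartesianMonoidalCategory MonObj

noncomputable section

namespace Groth.Agent.Riemann22

variable {k : Type u} [Field k] [IsAlgClosed k] {C : Scheme.{u}} [C.Over (Spec (CommRingCat.of k))]
  [IsProper (C ↘ Spec (CommRingCat.of k))] [Smooth (C ↘ Spec (CommRingCat.of k))]
  [GeometricallyConnected (C ↘ Spec (CommRingCat.of k))] [IsIntegral C]
  [GeometricallyIrreducible (C ↘ Spec (CommRingCat.of k))] (hdim : topologicalKrullDim C = 1)
include hdim

theorem exists_perm_of_prod_eq : ∀ {n : ℕ}
    (x x' : Fin n → (𝟙_ (Over (Spec (CommRingCat.of k))) ⟶ Over.mk (C ↘ Spec (CommRingCat.of k)))),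
    (∏ i, (x i).left.ker) = (∏ i, (x' i).left.ker) → ∃ e : Equiv.Perm (Fin n), ∀ i, x' i = x (e i) := by
  intro n
  induction n with
  | zero => exact fun x x' _ => ⟨1, fun i => i.elim0⟩
  | succ n ih =>
    intro x x' h
    obtain ⟨i₀, hi₀⟩ : ∃ i, x i = x' 0 := by
      by_contra hne
      push Not at hne
      have key : ∀ s : Finset (Fin (n + 1)), s.Nonempty → (∏ i ∈ s, (x i).left.ker) ⊔ (x' 0).left.ker = ⊤ := by
        intro s hs
        induction hs using Finset.Nonempty.cons_induction with
        | singleton a => rw [Finset.prod_singleton]; exact pts_sup (k := k) (C := C) _ _ (hne a)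
        | cons a t hat _ ih' => rw [Finset.prod_cons]; exact mul_sup_eq_top (pts_sup (k := k) (C := C) _ _ (hne a)) ih'
      have h1 := key Finset.univ Finset.univ_nonempty
      rw [h, sup_eq_right.2 (by rw [Fin.prod_univ_succ]; exact CurveCartier25.mul_le_left _ _)] at h1
      haveI := CurvePts22.isClosedImmersion_of_section (C := C) (x' 0).left (Over.w (x' 0))
      exact IsEmpty.false (self := (Scheme.Hom.ker_eq_top_iff_isEmpty _).1 h1) (default : ↥(Spec (CommRingCat.of k)))
    rw [Fin.prod_univ_succAbove _ i₀, Fin.prod_univ_succ, hi₀] at h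
    have hE : BlowUp.IsEffCartierIdeal (x' 0).left.ker :=
      Abel10.isEffCartierIdeal_point hdim (x' 0).left (Over.w (x' 0))
    obtain ⟨e, he⟩ := ih (fun i => x (i₀.succAbove i)) (fun i => x' i.succ)
      (EffCartier.eq_of_mul_eq_mul_right hE (by rw [_root_.mul_comm _ (x' 0).left.ker, h, _root_.mul_comm]))
    refine ⟨(finSuccEquiv' 0).trans (e.optionCongr.trans (finSuccEquiv' i₀).symm), fun i => ?_⟩
    induction i using Fin.cases with
    | zero => simp [hi₀]
    | succ i => simp [he i, finSuccEquiv'_zero, finSuccEquiv_succ]

end Groth.Agent.Riemann22
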