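import Groth.Agent.Lib.Riemann22.Cartier
import Groth.Agent.Lib.Riemann22.Class
import Groth.Agent.Lib.JacPts22.Albanese
import Groth.Agent.Lib.JacPts22.Generate
import Groth.Agent.Lib.Abel10.ZeroDiv
import Groth.Agent.Lib.SchImage.ReducedKer
import Groth.Agent.Lib.MumVan22.PushShear
import Groth.Agent.Lib.CubeField.Square

/-!
# The theta divisor moves in no linear system
-/

set_option autoImplicit false
set_option linter.style.haveILetI false
set_option linter.unusedSectionVars false
set_option backward.isDefEq.respectTransparency false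
set_option backward.isDefEq.respectTransparency.types false
set_option maxHeartbeats 1000000

universe u

open CategoryTheory CategoryTheory.Limits AlgebraicGeometry TopologicalSpace Opposite MonoidalCategory
  CartesianMonoidalCategory MonObj

noncomputable section

namespace Groth.Agent.Riemann22

open Groth.Agent.Abel10 (pc pc_comp pc_id)
open Groth.Agent.JacPts22
open Groth.Agent.Abel10 Groth.Agent.PicRep20

noncomputable local instance instLawThetaSections (Y : Scheme.{u}) : PicGrp.Law Y := M2.law Y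

section General

variable {X : Scheme.{u}} {L : X.Modules} {I : X.IdealSheafData} {s : Γ(L, (⊤ : X.Opens))}

/-- A section vanishes on a reduced scheme exactly when that lands in its zero scheme. -/
theorem res'_eq_zero_iff (hs : LocEq L I s) {V : Scheme.{u}} [IsReduced V] (v : V ⟶ X) [QuasiCompact v] :
    ModLimH13.res' v L (W := ⊤) (W' := ⊤) le_top s = 0 ↔ Set.range v.base ⊆ (I.support : Set X) := by
  have h : I ≤ v.ker ↔ Set.range v.base ⊆ (I.support : Set X) := by
    rw [SchImage.ker_eq_vanishingIdeal, ← Scheme.IdealSheafData.le_support_iff_le_vanishingIdeal]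
    exact I.support.isClosed.closure_subset_iff
  exact ⟨fun e => h.1 (le_ker_of_res'_eq_zero hs v e), fun e => res'_eq_zero_of_le_ker hs v (h.2 e)⟩

/-- A section of an integral scheme which vanishes everywhere is zero. -/
theorem eq_zero_of_support_eq_univ [IsReduced X] (hs : LocEq L I s) (h : (I.support : Set X) = Set.univ) : s = 0 := by
  have hI : I ≤ (𝟙 X : X ⟶ X).ker := by
    rw [SchImage.ker_eq_vanishingIdeal, ← Scheme.IdealSheafData.le_support_iff_le_vanishingIdeal]
    intro x _
    exact h.ge (Set.mem_univ x)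
  choose W g a hxW hg hJ hsW using hs
  have ha : ∀ x, a x = 0 := fun x => by
    have h1 : a x ∈ (𝟙 X : X ⟶ X).ker.ideal (W x) := hI (W x) (by rw [hJ x]; exact Ideal.mem_span_singleton_self _)
    rw [Scheme.Hom.ker_apply, RingHom.mem_ker] at h1
    rw [Scheme.Hom.id_app] at h1
    exact h1
  refine TopCat.Sheaf.eq_of_locally_eq' (⟨_, L.isSheaf⟩ : TopCat.Sheaf AddCommGrpCat X)
    (fun y : X => (W y).1) ⊤ (fun _ => homOfLE le_top) (fun y _ => Opens.mem_iSup.2 ⟨y, hxW y⟩) _ 0 fun y => ?_
  rw [map_zero]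
  show M1.mres L le_top s = 0
  rw [hsW y, ha y, zero_smul]

theorem res'_sub (g : X ⟶ X) : True := trivial

end General

variable {k : Type u} [Field k]

/-- The scalar functions. -/
def cst (Y : Scheme.{u}) (p : Y ⟶ Spec (CommRingCat.of k)) (r : k) : Γ(Y, ⊤) :=
  p.appTop ((Scheme.ΓSpecIso (CommRingCat.of k)).inv r)

theorem appLE_cst {Y X : Scheme.{u}} (f : Y ⟶ X) (p : X ⟶ Spec (CommRingCat.of k)) (q : Y ⟶ Spec (CommRingCat.of k))
    (h : f ≫ p = q) (r : k) : f.appLE ⊤ ⊤ le_top (cst X p r) = cst Y q r := by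
  subst h
  rw [cst, cst, Scheme.Hom.comp_appTop]
  show f.appLE (⊤ : X.Opens) (f ⁻¹ᵁ ⊤) le_top _ = _
  rw [← Scheme.Hom.app_eq_appLE]
  rfl

/-- Sections of a module with a single section are proportional. -/
theorem exists_smul_eq {Y : Scheme.{u}} [Y.Over (Spec (CommRingCat.of k))] {M : Y.Modules}
    (h : Module.finrank k (Coh.HH Y M 0) = 1) {x₀ : Γ(M, (⊤ : Y.Opens))} (hx₀ : x₀ ≠ 0) (x : Γ(M, (⊤ : Y.Opens))) :
    ∃ r : k, x = cst Y (Y ↘ Spec (CommRingCat.of k)) r • x₀ := by
  let z := (CurveCoh17.hh0 M).symm x₀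
  have hz : z ≠ 0 := fun e => hx₀ (by
    rw [← (CurveCoh17.hh0 M).apply_symm_apply x₀]; exact (congrArg _ e).trans (map_zero _))
  obtain ⟨c, hc⟩ := (finrank_eq_one_iff_of_nonzero' z hz).1 h ((CurveCoh17.hh0 M).symm x)
  refine ⟨c, ?_⟩
  have h1 := congrArg (CurveCoh17.hh0 M) hc
  rw [AddEquiv.apply_symm_apply] at h1
  refine h1.symm.trans ((CurveCoh17.hh0_smul _ _).trans ?_)
  rw [AddEquiv.apply_symm_apply]
  rfl

variable [IsAlgClosed k] {C : Scheme.{u}} [C.Over (Spec (CommRingCat.of k))]
  [IsProper (C ↘ Spec (CommRingCat.of k))] [Smooth (C ↘ Spec (CommRingCat.of k))]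
  [GeometricallyConnected (C ↘ Spec (CommRingCat.of k))] [IsIntegral C]
  [GeometricallyIrreducible (C ↘ Spec (CommRingCat.of k))]
  (hdim : topologicalKrullDim C = 1)
  {σ : Spec (CommRingCat.of k) ⟶ C} (hσ : σ ≫ (C ↘ Spec (CommRingCat.of k)) = 𝟙 _)
  {J : Over (Spec (CommRingCat.of k))} [GrpObj J] [IsCommMonObj J]
  {ψ : (ModFun.PicDeg (C ↘ Spec (CommRingCat.of k)) 0).Hom ⊤ J}
  (hJ : Jac.IsJacobian (C ↘ Spec (CommRingCat.of k)) ⊤ J ψ)
  (j : Over.mk (C ↘ Spec (CommRingCat.of k)) ⟶ J)
  (hj : Jac.IsAbelJacobiAt (C ↘ Spec (CommRingCat.of k)) σ ψ j)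

include hdim hσ hJ hj

theorem finrank_theta_eq_one {n : ℕ} (hn : Curv2.genus k C = n + 1)
    (hcl : IsClosed (Set.range (sumMap j n).left.base))
    (hE : BlowUp.IsEffCartierIdeal (Scheme.IdealSheafData.vanishingIdeal ⟨_, hcl⟩))
    {L : J.left.Modules} (hL : PicF.IsInvertible L)
    (hLc : PicGrp.cls L hL = (PicGrp.cls _ (M2.isInvertible_idealMod _ hE))⁻¹) :
    @Module.finrank k (Coh.HH J.left L 0) _ _ (letI : J.left.Over (Spec (CommRingCat.of k)) := ⟨J.hom⟩; inferInstance) = 1 := by
  letI : J.left.Over (Spec (CommRingCat.of k)) := ⟨J.hom⟩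
  obtain ⟨hJp, hJs, hJg⟩ := jacobian_props hdim σ hσ hJ
  haveI := hJp
  haveI := hJg
  haveI : IsIntegral J.left := GeometricallyIntegral.isIntegral_of_subsingleton J.hom
  haveI : IsLocallyNoetherian J.left := LocallyOfFiniteType.isLocallyNoetherian J.hom
  haveI : CompactSpace J.left := QuasiCompact.compactSpace_of_compactSpace J.hom
  haveI : IsNoetherian J.left := {}
  haveI : IsIntegral (Over.mk (C ↘ Spec (CommRingCat.of k))).left := ‹IsIntegral C›
  let vI := Scheme.IdealSheafData.vanishingIdeal (⟨_, hcl⟩ : TopologicalSpace.Closeds J.left)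
  obtain ⟨e⟩ := (PicGrp.cls_mul_cls_eq_one_iff hL (M2.isInvertible_idealMod _ hE)).1
    (by rw [hLc, inv_mul_cancel])
  obtain ⟨s₀, hs₀⟩ := exists_locEq hE hL e
  set Θ := Set.range (sumMap j n).left.base with hΘ
  have hsupp : (vI.support : Set J.left) = Θ := Scheme.IdealSheafData.coe_support_vanishingIdeal _
  -- a section not proportional to the theta section vanishes only on the theta divisor
  have key : ∀ (s : Γ(L, (⊤ : J.left.Opens))) (I : J.left.IdealSheafData), LocEq L I s → s ≠ 0 →
      (I.support : Set J.left) ⊆ Θ := by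
    intro s I hs hne
    by_contra hsub
    obtain ⟨S, hSf, hSirr, hSeq⟩ := NoetherianSpace.exists_finite_set_closeds_irreducible I.support
    have hmem : ∀ x : J.left, x ∈ I.support → ∃ t ∈ S, x ∈ t := fun x hx => by
      have hU : IsClosed (⋃ t ∈ S, (t : Set J.left)) := hSf.isClosed_biUnion fun t _ => t.isClosed
      have : I.support ≤ ⟨_, hU⟩ := hSeq ▸ sSup_le fun t ht y hy => Set.mem_biUnion ht hy
      simpa using this hx
    have hSle : ∀ t ∈ S, t ≤ I.support := fun t ht => hSeq ▸ le_sSup ht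
    obtain ⟨E, ⟨hES, hEΘ⟩, hEmax⟩ := (hSf.subset (Set.sep_subset S fun t => ¬ (t : Set J.left) ⊆ Θ)).exists_maximal (by
      obtain ⟨x, hx, hxΘ⟩ := Set.not_subset.1 hsub
      obtain ⟨t, ht, hxt⟩ := hmem x hx
      exact ⟨t, ht, fun h => hxΘ (h hxt)⟩)
    let B : Set J.left := Θ ∪ ⋃ t ∈ {t ∈ S | t ≠ E}, (t : Set J.left)
    have hBc : IsClosed B := hcl.union ((hSf.subset (Set.sep_subset _ _)).isClosed_biUnion fun t _ => t.isClosed)
    have hEB : ¬ (E : Set J.left) ⊆ B := fun h => by
      rcases isPreirreducible_iff_isClosed_union_isClosed.1 (hSirr E hES).isPreirreducible _ _ hcl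
        ((hSf.subset (Set.sep_subset _ _)).isClosed_biUnion fun t _ => t.isClosed) h with h' | h'
      · exact hEΘ h'
      · obtain ⟨t, ht, hEt⟩ := isIrreducible_iff_sUnion_isClosed.1 (hSirr E hES)
          (((hSf.subset (Set.sep_subset S fun t => t ≠ E)).image (fun t : Closeds J.left => (t : Set J.left))).toFinset)
          (fun T hT => by
            obtain ⟨t, -, rfl⟩ := (Set.Finite.mem_toFinset _).1 hT
            exact t.isClosed)
          (fun x hx => by
            obtain ⟨t, ht, hxt⟩ := Set.mem_iUnion₂.1 (h' hx)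
            exact ⟨_, (Set.Finite.mem_toFinset _).2 ⟨t, ht, rfl⟩, hxt⟩)
        obtain ⟨t, ⟨htS, htne⟩, rfl⟩ := (Set.Finite.mem_toFinset _).1 ht
        exact htne (le_antisymm (hEmax ⟨htS, fun h => hEΘ (hEt.trans h)⟩ hEt) hEt)
    have hUlc : IsLocallyClosed ((E : Set J.left) ∩ Bᶜ) := E.isClosed.isLocallyClosed.inter hBc.isOpen_compl.isLocallyClosed
    -- each general point of the component carries a translate of the curve inside it
    have hcurve : ∀ w : 𝟙_ (Over (Spec (CommRingCat.of k))) ⟶ J, CurvePts22.pt w.left ∈ (E : Set J.left) ∩ Bᶜ →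
        Set.range (hMap j w).left.base ⊆ (E : Set J.left) := by
      rintro w ⟨hwE, hwB⟩
      have hwΘ : CurvePts22.pt w.left ∉ Θ := fun h => hwB (Or.inl h)
      let y₀ : 𝟙_ (Over (Spec (CommRingCat.of k))) ⟶ Over.mk (C ↘ Spec (CommRingCat.of k)) := Over.homMk σ hσ
      have hbase : y₀ ≫ hMap j w = w := by
        rw [hMap, MonObj.comp_mul, GrpObj.comp_inv, base_comp_abel hdim hσ hJ j hj, inv_one, _root_.one_mul,
          ← Category.assoc y₀, toUnit_unique (y₀ ≫ toUnit _) (𝟙 _), Category.id_comp]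
      let x : Torelli22.Pts k C := ⟨σ, hσ⟩
      have h2 : cN hdim σ hσ ψ hJ n w = cN hdim σ hσ ψ hJ (n + 1) w * Torelli22.P hdim x := by
        rw [cN, cN, _root_.mul_assoc, pow_succ, mul_inv_rev, mul_comm (Torelli22.P hdim x)⁻¹, inv_mul_cancel_right]
      have h3 : h0C k (cN hdim σ hσ ψ hJ n w) = 0 := by
        by_contra hne'
        exact hwΘ ((pt_mem_sum hdim σ hσ ψ hJ j hj _).2
          (eff_of_h0_pos hdim _ _ (degC_cN hdim σ hσ ψ hJ _ _) (Nat.pos_of_ne_zero hne')))
      have h4 := h0C_le_mul_P hdim (cN hdim σ hσ ψ hJ (n + 1) w) x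
      rw [← h2, h3] at h4
      have h5 : 1 ≤ h0C k (cN hdim σ hσ ψ hJ (n + 1) w) := by
        have hr := rr hdim x (cN hdim σ hσ ψ hJ (n + 1) w)
        rw [degC_cN, hn] at hr
        omega
      let f := (hMap j w).left
      haveI : IsIntegral (Over.mk (C ↘ Spec (CommRingCat.of k))).left := ‹IsIntegral C›
      haveI : QuasiCompact f := by
        haveI : QuasiCompact (f ≫ J.hom) := by
          rw [Over.w (hMap j w)]; exact inferInstanceAs (QuasiCompact (C ↘ Spec (CommRingCat.of k)))
        exact QuasiCompact.of_comp f J.hom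
      let M : C.Modules := (Scheme.Modules.pullback f).obj L
      have hMc : PicGrp.cls (Y := C) M (PicLoc.isInvertible_pullback f hL) = cN hdim σ hσ ψ hJ (n + 1) w := by
        refine (PicGrp.pullHom_cls f (M2.pullMul _) L hL).symm.trans ?_
        rw [hLc, map_inv]
        erw [pullback_theta_class hdim hσ hJ j hj hn hcl hE w]
        exact inv_inv _
      have hM1 : Module.finrank k (Coh.HH C M 0) = 1 := by
        rw [← h0C_cls (k := k) (C := C) (PicLoc.isInvertible_pullback f hL)]
        show h0C k (PicGrp.cls (Y := C) M _) = 1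
        rw [hMc]
        omega
      have hx₀ : ModLimH13.res' f L (W := ⊤) (W' := ⊤) le_top s₀ ≠ 0 := fun h0 => by
        have hr := (res'_eq_zero_iff hs₀ f).1 h0
        rw [hsupp] at hr
        refine hwΘ ?_
        rw [← hbase]
        exact hr ⟨CurvePts22.pt y₀.left, rfl⟩
      obtain ⟨r, hr⟩ := exists_smul_eq (k := k) (Y := C) hM1 hx₀ (ModLimH13.res' f L (W := ⊤) (W' := ⊤) le_top s)
      have hcst : f.appLE ⊤ ⊤ le_top (cst J.left J.hom r) = cst C (C ↘ Spec (CommRingCat.of k)) r :=
        appLE_cst f J.hom _ (Over.w (hMap j w)) r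
      have hzero : ModLimH13.res' f L (W := ⊤) (W' := ⊤) le_top (s + (- cst J.left J.hom r) • s₀) = 0 := by
        rw [ModLimH13.res'_add, ModLimH13.res'_smul, map_neg, hcst, hr, neg_smul]
        exact add_neg_cancel _
      obtain ⟨I', hI'⟩ := exists_locEq_ideal hL (s + (- cst J.left J.hom r) • s₀)
      have hwI : Set.range (w.left.base) ⊆ (I'.support : Set J.left) := by
        rintro _ ⟨p, rfl⟩
        refine (res'_eq_zero_iff hI' f).1 hzero ⟨CurvePts22.pt y₀.left, ?_⟩
        show CurvePts22.pt (y₀ ≫ hMap j w).left = w.left.base p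
        rw [hbase, base_eq]
      haveI : IsReduced (𝟙_ (Over (Spec (CommRingCat.of k)))).left := inferInstanceAs (IsReduced (Spec (CommRingCat.of k)))
      haveI : QuasiCompact w.left := by
        haveI : QuasiCompact (w.left ≫ J.hom) := by rw [Over.w w]; exact inferInstanceAs (QuasiCompact (𝟙 _))
        exact QuasiCompact.of_comp w.left J.hom
      have hws : ModLimH13.res' w.left L (W := ⊤) (W' := ⊤) le_top s = 0 := (res'_eq_zero_iff hs w.left).2 (by
        rintro _ ⟨p, rfl⟩; rw [base_eq]; exact hSle E hES hwE)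
      have hr0 : r = 0 := by
        by_contra hrne
        have h0 := (res'_eq_zero_iff hI' w.left).2 hwI
        rw [ModLimH13.res'_add, hws, zero_add, ModLimH13.res'_smul, map_neg, neg_smul, neg_eq_zero,
          appLE_cst w.left J.hom _ rfl] at h0
        have hu : IsUnit (cst _ (w.left ≫ J.hom) r) := ((Ne.isUnit hrne).map _).map _
        have hz0 := (res'_eq_zero_iff hs₀ w.left).1 (hu.smul_eq_zero.1 h0)
        rw [hsupp] at hz0
        exact hwΘ (hz0 ⟨_, base_eq w (IsLocalRing.closedPoint k)⟩)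
      have hfs : ModLimH13.res' f L (W := ⊤) (W' := ⊤) le_top s = 0 := by
        rw [hr, hr0]
        simp [cst]
      have hrange := (res'_eq_zero_iff hs f).1 hfs
      -- the irreducible curve lies in one component
      have hirr : IsIrreducible (Set.range f.base) := by
        rw [← Set.image_univ]
        exact (IrreducibleSpace.isIrreducible_univ _).image _ f.continuous.continuousOn
      obtain ⟨T, hT, hfT⟩ := isIrreducible_iff_sUnion_isClosed.1 hirr
        ((hSf.image (fun t : Closeds J.left => (t : Set J.left))).toFinset)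
        (fun T hT => by obtain ⟨t, -, rfl⟩ := (Set.Finite.mem_toFinset _).1 hT; exact t.isClosed)
        (fun x hx => by
          obtain ⟨t, ht, hxt⟩ := hmem x (hrange hx)
          exact ⟨_, (Set.Finite.mem_toFinset _).2 ⟨t, ht, rfl⟩, hxt⟩)
      obtain ⟨t, htS, rfl⟩ := (Set.Finite.mem_toFinset _).1 hT
      have hwt : CurvePts22.pt w.left ∈ (t : Set J.left) := hfT (by
        rw [← hbase]; exact ⟨CurvePts22.pt y₀.left, rfl⟩)
      by_cases hte : t = E
      · exact hte ▸ hfT
      · exact absurd (show CurvePts22.pt w.left ∈ B from Or.inr (Set.mem_biUnion (show t ∈ {t ∈ S | t ≠ E} from ⟨htS, hte⟩) hwt)) hwB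
    -- the component is stable under the curve, hence is everything
    have hstab : ∀ c : 𝟙_ (Over (Spec (CommRingCat.of k))) ⟶ Over.mk (C ↘ Spec (CommRingCat.of k)),
        ∀ w : 𝟙_ (Over (Spec (CommRingCat.of k))) ⟶ J, CurvePts22.pt w.left ∈ E →
          CurvePts22.pt (w * (c ≫ j)⁻¹).left ∈ E := by
      intro c w hw
      let t := Jac.transl J (c ≫ j)⁻¹
      suffices h : (E : Set J.left) ⊆ t.left.base ⁻¹' (E : Set J.left) by
        rw [← point_comp_transl]
        exact h hw
      have hpc : IsClosed (t.left.base ⁻¹' (E : Set J.left)) := E.isClosed.preimage t.left.continuous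
      intro x hx
      by_contra hxn
      have hne : ((E : Set J.left) ∩ Bᶜ ∩ (t.left.base ⁻¹' (E : Set J.left))ᶜ).Nonempty := by
        rw [Set.inter_assoc]
        refine (hSirr E hES).isPreirreducible _ _ hBc.isOpen_compl hpc.isOpen_compl ?_ ⟨x, hx, hxn⟩
        obtain ⟨z, hz, hzB⟩ := Set.not_subset.1 hEB
        exact ⟨z, hz, hzB⟩
      obtain ⟨v, hv, hv'⟩ := exists_point_mem (P := J) (hUlc.inter hpc.isOpen_compl.isLocallyClosed) hne
      refine hv' ?_
      show t.left.base (CurvePts22.pt v.left) ∈ (E : Set J.left)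
      refine hcurve v hv ⟨CurvePts22.pt c.left, ?_⟩
      show CurvePts22.pt (c ≫ hMap j v).left = CurvePts22.pt (v ≫ t).left
      rw [point_comp_transl, hMap, MonObj.comp_mul, GrpObj.comp_inv, ← Category.assoc c,
        toUnit_unique (c ≫ toUnit _) (𝟙 _), Category.id_comp, _root_.mul_comm]
    obtain ⟨z, hz⟩ := exists_point_mem (P := J) E.isClosed.isLocallyClosed (hSirr E hES).nonempty
    haveI : Surjective (sumMap j (n + 1)).left := by
      rw [← hn]; exact ⟨surjective_sumMap hdim σ hσ hJ j hj⟩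
    have hall : ∀ v : 𝟙_ (Over (Spec (CommRingCat.of k))) ⟶ J, CurvePts22.pt v.left ∈ E := by
      intro v
      obtain ⟨y, hy⟩ := (pt_mem_range_iff (sumMap j (n + 1)) (v⁻¹ * z)).1 ((sumMap j (n + 1)).left.surjective _)
      rw [comp_sumMap] at hy
      have h : ∀ s : Finset (Fin (n + 1)), CurvePts22.pt (z * (∏ i ∈ s, (y ≫ prj i) ≫ j)⁻¹).left ∈ E := by
        intro s
        induction s using Finset.cons_induction with
        | empty => simpa using hz
        | cons a s has ih =>
          rw [Finset.prod_cons, mul_inv_rev, ← _root_.mul_assoc]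
          exact hstab _ _ ih
      have := h Finset.univ
      rwa [hy, mul_inv_rev, inv_inv, mul_inv_cancel_left] at this
    refine hne (eq_zero_of_support_eq_univ hs (Set.eq_univ_of_forall fun x => ?_))
    by_contra hx
    obtain ⟨v, hv⟩ := exists_point_mem (P := J) I.support.isClosed.isOpen_compl.isLocallyClosed ⟨x, hx⟩
    exact hv (hSle E hES (hall v))
  -- every section is a multiple of the theta section
  have hΘne : Θᶜ.Nonempty := Set.nonempty_compl.2 fun h => by
    have := PicRep20.ne_zero_of_locEq hL hs₀ hE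
    exact this (eq_zero_of_support_eq_univ hs₀ (hsupp.trans h))
  obtain ⟨z, hz⟩ := exists_point_mem (P := J) hcl.isOpen_compl.isLocallyClosed hΘne
  let zl : Spec (CommRingCat.of k) ⟶ J.left := z.left
  haveI : QuasiCompact zl := by
    haveI : QuasiCompact (zl ≫ J.hom) := by rw [Over.w z]; exact inferInstanceAs (QuasiCompact (𝟙 _))
    exact QuasiCompact.of_comp zl J.hom
  letI : (Spec (CommRingCat.of k)).Over (Spec (CommRingCat.of k)) := ⟨𝟙 _⟩
  have hz₀ : ModLimH13.res' zl L (W := ⊤) (W' := ⊤) le_top s₀ ≠ 0 := fun h => by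
    have := (res'_eq_zero_iff hs₀ zl).1 h
    rw [hsupp] at this
    exact hz (this ⟨_, base_eq z (IsLocalRing.closedPoint k)⟩)
  have hrank : Module.finrank k (Coh.HH (Spec (CommRingCat.of k)) ((Scheme.Modules.pullback zl).obj L) 0) = 1 := by
    obtain ⟨i⟩ := CubeField.nonempty_trivial_field _ (PicLoc.isInvertible_pullback zl hL)
    rw [(CurveCoh17.hequiv k i 0).finrank_eq]
    have := PushShear22.finrank_H0_structure (𝟙 (Spec (CommRingCat.of k))) (Iso.refl _) (B := k) (by simp)
    rw [Module.finrank_self] at this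
    exact_mod_cast this
  have hspan : ∀ s : Γ(L, (⊤ : J.left.Opens)), ∃ r : k, s = cst J.left J.hom r • s₀ := fun s => by
    obtain ⟨r, hr⟩ := exists_smul_eq (k := k) hrank hz₀ (ModLimH13.res' zl L (W := ⊤) (W' := ⊤) le_top s)
    refine ⟨r, ?_⟩
    by_contra hne
    obtain ⟨I, hI⟩ := exists_locEq_ideal hL (s + (- cst J.left J.hom r) • s₀)
    have hne' : s + (- cst J.left J.hom r) • s₀ ≠ 0 := fun h => hne (by
      rwa [neg_smul, add_neg_eq_zero] at h)
    refine hz (key _ I hI hne' ((res'_eq_zero_iff hI zl).1 ?_ ⟨_, base_eq z (IsLocalRing.closedPoint k)⟩))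
    rw [ModLimH13.res'_add, ModLimH13.res'_smul, map_neg, appLE_cst zl J.hom _ (Over.w z), hr, neg_smul]
    exact add_neg_cancel _
  let z₀ := (CurveCoh17.hh0 L).symm s₀
  have hz₀' : z₀ ≠ 0 := fun e => PicRep20.ne_zero_of_locEq hL hs₀ hE (by
    rw [← (CurveCoh17.hh0 L).apply_symm_apply s₀]; exact (congrArg _ e).trans (map_zero _))
  refine (finrank_eq_one_iff_of_nonzero' z₀ hz₀').2 fun w => ?_
  obtain ⟨r, hr⟩ := hspan (CurveCoh17.hh0 L w)
  refine ⟨r, (CurveCoh17.hh0 L).injective ((CurveCoh17.hh0_smul _ _).trans ?_)⟩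
  rw [AddEquiv.apply_symm_apply, hr]
  rfl

end Groth.Agent.Riemann22
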